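import Mathlib.RingTheory.AdicCompletion.Basic
import Mathlib.RingTheory.AdicCompletion.Functoriality
import Mathlib.RingTheory.AdicCompletion.Exactness
import Mathlib.RingTheory.AdicCompletion.Noetherian
import Mathlib.RingTheory.Noetherian.OfPrime
import Mathlib.RingTheory.FiniteType
import Mathlib.RingTheory.Finiteness.Ideal
import Mathlib.RingTheory.Ideal.Cotangent

/-! Completeness of finite modules, quotients, and Noetherianity of adically complete rings. -/

set_option autoImplicit false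
set_option linter.unusedSectionVars false

universe u v w

namespace Groth.Agent.Lib.Adic.Complete

open Submodule

section Module

variable {R : Type u} [CommRing R] {I : Ideal R}
variable {M : Type v} [AddCommGroup M] [Module R M]

theorem mem_smul_top_pi {ι : Type w} [Fintype ι] {J : Ideal R} {x : ι → R} (hx : ∀ i, x i ∈ J) :
    x ∈ (J • ⊤ : Submodule R (ι → R)) := by
  classical
  rw [pi_eq_sum_univ x]
  exact Submodule.sum_mem _ fun i _ => smul_mem_smul (hx i) mem_top

theorem mem_of_mem_smul_top_pi {ι : Type w} {J : Ideal R} {x : ι → R}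
    (hx : x ∈ (J • ⊤ : Submodule R (ι → R))) (i : ι) : x i ∈ J := by
  induction hx using Submodule.smul_induction_on' with
  | smul r hr y _ => exact J.mul_mem_right _ hr
  | add a _ b _ ha hb => exact J.add_mem ha hb

theorem pow_mul_top (n : ℕ) : (I ^ n • ⊤ : Submodule R R) = I ^ n := by
  rw [smul_eq_mul, Ideal.mul_top]

theorem isPrecomplete_pi [IsPrecomplete I R] (ι : Type w) [Fintype ι] :
    IsPrecomplete I (ι → R) := by
  refine ⟨fun f hf => ?_⟩
  have h : ∀ i, ∃ L, ∀ n, f n i ≡ L [SMOD (I ^ n • ⊤ : Submodule R R)] := fun i => by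
    refine IsPrecomplete.prec (I := I) ‹_› (f := fun n => f n i) fun {m n} hmn => ?_
    rw [SModEq.sub_mem, pow_mul_top]
    exact mem_of_mem_smul_top_pi (SModEq.sub_mem.1 (hf hmn)) i
  choose L hL using h
  refine ⟨L, fun n => SModEq.sub_mem.2 (mem_smul_top_pi fun i => ?_)⟩
  have := SModEq.sub_mem.1 (hL i n)
  rwa [pow_mul_top] at this

theorem isPrecomplete_of_surjective {N : Type w} [AddCommGroup N] [Module R N]
    [IsPrecomplete I M] {f : M →ₗ[R] N} (hf : Function.Surjective f) : IsPrecomplete I N := by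
  rw [← AdicCompletion.of_surjective_iff]
  intro y
  obtain ⟨z, rfl⟩ := AdicCompletion.map_surjective I hf y
  obtain ⟨x, rfl⟩ := AdicCompletion.of_surjective I M z
  exact ⟨f x, (AdicCompletion.map_of I f x).symm⟩

theorem isPrecomplete_of_finite [IsPrecomplete I R] [Module.Finite R M] : IsPrecomplete I M := by
  obtain ⟨n, f, hf⟩ := Module.Finite.exists_fin' R M
  haveI := isPrecomplete_pi (I := I) (Fin n)
  exact isPrecomplete_of_surjective hf

theorem isHausdorff_submodule [IsHausdorff I M] (N : Submodule R M) : IsHausdorff I N := by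
  refine ⟨fun x hx => Subtype.ext (IsHausdorff.haus ‹IsHausdorff I M› (x : M) fun n => ?_)⟩
  rw [SModEq.zero]
  have := mem_map_of_mem (f := N.subtype) (SModEq.zero.1 (hx n))
  rw [map_smul''] at this
  exact smul_mono le_rfl le_top this

theorem isAdicComplete_of_finite [IsNoetherianRing R] [IsAdicComplete I R] [Module.Finite R M] :
    IsAdicComplete I M :=
  { toIsHausdorff := IsHausdorff.of_le_jacobson I M (IsAdicComplete.le_jacobson_bot I)
    toIsPrecomplete := isPrecomplete_of_finite }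

/-- A submodule of a separated module is generated by any finite family generating it
modulo the ideal, if the ring is complete. -/
theorem le_of_le_sup_smul [IsPrecomplete I R] [IsHausdorff I M] {N P : Submodule R M}
    (hN : N.FG) (hNP : N ≤ P) (h : P ≤ N ⊔ I • P) : P ≤ N := by
  obtain ⟨r, g, hg⟩ := Submodule.fg_iff_exists_fin_generating_family.1 hN
  haveI := isPrecomplete_pi (I := I) (Fin r)
  haveI : IsHausdorff I P := isHausdorff_submodule P
  have hgP : ∀ i, g i ∈ P := fun i => hNP (hg ▸ subset_span ⟨i, rfl⟩)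
  let φ : (Fin r → R) →ₗ[R] P := Fintype.linearCombination R fun i => (⟨g i, hgP i⟩ : P)
  have hφ : ∀ c, (φ c : M) = Fintype.linearCombination R g c := fun c => by
    simp [φ, Fintype.linearCombination_apply]
  have hsurj : Function.Surjective φ := by
    refine surjective_of_mkQ_comp_surjective (I := I) fun y => ?_
    obtain ⟨p, rfl⟩ := mkQ_surjective _ y
    obtain ⟨a, ha, b, hb, hab⟩ := mem_sup.1 (h p.2)
    rw [← hg] at ha
    obtain ⟨c, hc⟩ := (mem_span_range_iff_exists_fun R).1 ha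
    refine ⟨c, ?_⟩
    rw [LinearMap.comp_apply, mkQ_apply, mkQ_apply, Submodule.Quotient.eq,
      mem_smul_top_iff]
    have : ((φ c - p : P) : M) = -b := by
      rw [AddSubgroupClass.coe_sub, hφ, Fintype.linearCombination_apply, hc, ← hab]
      abel
    rw [this]
    exact neg_mem hb
  intro p hp
  obtain ⟨c, hc⟩ := hsurj ⟨p, hp⟩
  rw [← hg, mem_span_range_iff_exists_fun]
  refine ⟨c, ?_⟩
  rw [← Fintype.linearCombination_apply, ← hφ, hc]

theorem finite_of_finite_quotient [IsPrecomplete I R] [IsHausdorff I M]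
    (h : Module.Finite R (M ⧸ (I • ⊤ : Submodule R M))) : Module.Finite R M := by
  obtain ⟨n, f, hf⟩ := Module.Finite.exists_fin' R (M ⧸ (I • ⊤ : Submodule R M))
  have hl : ∀ i, ∃ m, (I • ⊤ : Submodule R M).mkQ m = f (Pi.single i 1) := fun i =>
    mkQ_surjective _ _
  choose g hg using hl
  have key : (⊤ : Submodule R M) ≤ span R (Set.range g) ⊔ I • ⊤ := by
    intro m _
    obtain ⟨c, hc⟩ := hf ((I • ⊤ : Submodule R M).mkQ m)
    have : (I • ⊤ : Submodule R M).mkQ (Fintype.linearCombination R g c) =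
        (I • ⊤ : Submodule R M).mkQ m := by
      rw [← hc, pi_eq_sum_univ' c, map_sum, map_sum, map_sum]
      refine Finset.sum_congr rfl fun i _ => ?_
      rw [map_smul, map_smul, map_smul, ← hg i, Fintype.linearCombination_apply_single, one_smul]
    rw [mkQ_apply, mkQ_apply, Submodule.Quotient.eq] at this
    refine mem_sup.2 ⟨Fintype.linearCombination R g c, ?_, _, neg_mem this, by abel⟩
    rw [mem_span_range_iff_exists_fun]
    exact ⟨c, rfl⟩
  exact ⟨⟨(Set.finite_range g).toFinset, by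
    rw [Set.Finite.coe_toFinset]
    exact top_le_iff.1 (le_of_le_sup_smul (fg_span (Set.finite_range g)) le_top key)⟩⟩

end Module

section Ring

variable {A : Type u} [CommRing A]

theorem exists_fg_le_sup {K P : Ideal A} (h : (P.map (Ideal.Quotient.mk K)).FG) :
    ∃ P₀ : Ideal A, P₀.FG ∧ P₀ ≤ P ∧ P ≤ P₀ ⊔ K := by
  classical
  obtain ⟨s, hs⟩ := h
  have hl : ∀ y ∈ (s : Set (A ⧸ K)), ∃ x, x ∈ P ∧ Ideal.Quotient.mk K x = y := fun y hy =>
    (Ideal.mem_map_iff_of_surjective _ Ideal.Quotient.mk_surjective).1 (hs ▸ subset_span hy)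
  choose! g hgP hg using hl
  refine ⟨Ideal.span (s.image g : Finset A), ⟨_, rfl⟩, ?_, fun p hp => ?_⟩
  · rw [Ideal.span_le, Finset.coe_image]
    rintro _ ⟨y, hy, rfl⟩
    exact hgP y hy
  · have hmem : Ideal.Quotient.mk K p ∈
        (Ideal.span (s.image g : Finset A) : Ideal A).map (Ideal.Quotient.mk K) := by
      refine (Ideal.span_le.2 fun y hy => ?_) (hs ▸ Ideal.mem_map_of_mem _ hp :
        Ideal.Quotient.mk K p ∈ Ideal.span (s : Set (A ⧸ K)))
      rw [← hg y hy]
      exact Ideal.mem_map_of_mem _ (Ideal.subset_span (Finset.mem_coe.2 (Finset.mem_image_of_mem g hy)))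
    exact Submodule.mem_sup.2 (by
      obtain ⟨q, hq, hqp⟩ := (Ideal.mem_map_iff_of_surjective _ Ideal.Quotient.mk_surjective).1 hmem
      exact ⟨q, hq, p - q, Ideal.Quotient.eq.1 hqp.symm, add_sub_cancel q p⟩)

theorem fg_of_le_sup {K P P₀ : Ideal A} (hK : K.FG) (hKP : K ≤ P) (h₀ : P₀.FG) (hP₀ : P₀ ≤ P)
    (h : P ≤ P₀ ⊔ K) : P.FG := by
  rw [le_antisymm h (sup_le hP₀ hKP)]
  exact Submodule.FG.sup h₀ hK

theorem isNoetherianRing_of_fg {J : Ideal A} [IsAdicComplete J A] (hJ : J.FG)
    [IsNoetherianRing (A ⧸ J)] : IsNoetherianRing A := by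
  refine IsNoetherianRing.of_prime fun P₁ hP₁ => ?_
  by_contra hP₁fg
  obtain ⟨P, -, hP⟩ : ∃ P, P₁ ≤ P ∧ Maximal (fun I : Ideal A => ¬ I.FG) P := by
    refine zorn_le_nonempty₀ {I : Ideal A | ¬ I.FG} (fun C hC₁ hC₂ I hI =>
      ⟨sSup C, ?_, fun _ => le_sSup⟩) P₁ hP₁fg
    rintro ⟨G, hG⟩
    obtain ⟨I', hI', hGI'⟩ : ∃ I' ∈ C, (G : Set A) ⊆ I' := by
      refine hC₂.directedOn.exists_mem_subset_of_finset_subset_biUnion ⟨I, hI⟩ (fun x hx => ?_)
      simp only [Set.mem_iUnion, SetLike.mem_coe, exists_prop]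
      exact (Submodule.mem_sSup_of_directed ⟨I, hI⟩ hC₂.directedOn).1 (hG ▸ subset_span hx)
    exact hC₁ hI' ⟨G, le_antisymm (Ideal.span_le.2 hGI') (hG ▸ le_sSup hI')⟩
  have hprime := Ideal.isOka_fg.isPrime_of_maximal_not hP
  refine hP.prop ?_
  by_cases hJP : J ≤ P
  · obtain ⟨P₀, h₀, hP₀, hle⟩ := exists_fg_le_sup (K := J) (P := P)
      ((isNoetherianRing_iff_ideal_fg _).1 ‹_› _)
    exact fg_of_le_sup hJ hJP h₀ hP₀ hle
  obtain ⟨x, hxJ, hxP⟩ := SetLike.not_le_iff_exists.1 hJP
  have hsup : (P ⊔ Ideal.span {x}).FG :=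
    not_not.1 (hP.not_prop_of_gt (Submodule.lt_sup_iff_notMem.2 hxP))
  obtain ⟨P₀, h₀, hP₀, hle⟩ := exists_fg_le_sup (K := Ideal.span {x}) (P := P) (by
    have := hsup.map (Ideal.Quotient.mk (Ideal.span {x}))
    rwa [Ideal.map_sup, Ideal.map_quotient_self, sup_bot_eq] at this)
  have key : P ≤ P₀ := by
    refine le_of_le_sup_smul (I := J) h₀ hP₀ fun p hp => ?_
    obtain ⟨a, ha, b, hb, rfl⟩ := mem_sup.1 (hle hp)
    obtain ⟨c, rfl⟩ := Ideal.mem_span_singleton'.1 hb
    have hc : c ∈ P := by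
      have : c * x ∈ P := (P.add_mem_iff_right (hP₀ ha)).1 hp
      exact (hprime.mem_or_mem this).resolve_right hxP
    refine mem_sup.2 ⟨a, ha, _, ?_, rfl⟩
    rw [mul_comm]
    exact smul_mem_smul hxJ hc
  rw [le_antisymm key hP₀]
  exact h₀

theorem fg_of_isNoetherianRing_quotient_sq {J : Ideal A} [IsAdicComplete J A]
    [IsNoetherianRing (A ⧸ J ^ 2)] : J.FG := by
  obtain ⟨J₀, h₀, hJ₀, hle⟩ := exists_fg_le_sup (K := J ^ 2) (P := J)
    ((isNoetherianRing_iff_ideal_fg _).1 ‹_› _)
  have : J ≤ J₀ := by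
    refine le_of_le_sup_smul (I := J) h₀ hJ₀ (hle.trans ?_)
    rw [sq]
    exact le_rfl
  exact le_antisymm this hJ₀ ▸ h₀

theorem isNoetherianRing_of_quotient_sq {J : Ideal A} [IsAdicComplete J A]
    [IsNoetherianRing (A ⧸ J ^ 2)] : IsNoetherianRing A := by
  haveI : IsNoetherianRing (A ⧸ J) := isNoetherianRing_of_surjective _ _
    (Ideal.Quotient.factor (Ideal.pow_le_self two_ne_zero)) (Ideal.Quotient.factor_surjective _)
  exact isNoetherianRing_of_fg (J := J) fg_of_isNoetherianRing_quotient_sq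

theorem isNoetherianRing_of_finiteType {R : Type v} [CommRing R] [IsNoetherianRing R] (I : Ideal R)
    [Algebra R A] [IsAdicComplete (I.map (algebraMap R A)) A]
    (h : Algebra.FiniteType R (A ⧸ I.map (algebraMap R A))) : IsNoetherianRing A := by
  haveI := h
  haveI : IsNoetherianRing (A ⧸ I.map (algebraMap R A)) := Algebra.FiniteType.isNoetherianRing R _
  exact isNoetherianRing_of_fg (J := I.map (algebraMap R A)) (Ideal.FG.map ((isNoetherianRing_iff_ideal_fg R).1 ‹_› I) _)

theorem isAdicComplete_quotient [IsNoetherianRing A] {I : Ideal A} [IsAdicComplete I A]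
    (J : Ideal A) : IsAdicComplete (I.map (Ideal.Quotient.mk J)) (A ⧸ J) := by
  rw [← Ideal.Quotient.algebraMap_eq, IsAdicComplete.map_algebraMap_iff]
  exact isAdicComplete_of_finite

end Ring

end Groth.Agent.Lib.Adic.Complete
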