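import Groth.Agent.Lib.Adic.Complete

/-! Adic completeness only depends on the topology defined by the ideal. -/

set_option autoImplicit false
set_option linter.unusedSectionVars false

universe u v

namespace Groth.Agent.Lib.Adic.Transfer

open Submodule

variable {R : Type u} [CommRing R] {M : Type v} [AddCommGroup M] [Module R M]

/-- If `I ≤ J` and `J ^ N ≤ I`, completeness for `I` and for `J` are equivalent. -/
theorem isAdicComplete_of_le {I J : Ideal R} (hIJ : I ≤ J) {N : ℕ} (hN : J ^ N ≤ I)
    [IsAdicComplete I M] : IsAdicComplete J M := by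
  have h1 : ∀ n, (J ^ ((N + 1) * n) • ⊤ : Submodule R M) ≤ I ^ n • ⊤ := fun n => by
    refine smul_mono ?_ le_rfl
    rw [pow_mul]
    exact Ideal.pow_right_mono ((Ideal.pow_le_pow_right (Nat.le_succ N)).trans hN) n
  have h2 : ∀ n, (I ^ n • ⊤ : Submodule R M) ≤ J ^ n • ⊤ := fun n =>
    smul_mono (Ideal.pow_right_mono hIJ n) le_rfl
  refine { haus' := fun x hx => ?_, prec' := fun f hf => ?_ }
  · refine IsHausdorff.haus' (I := I) x fun n => ?_
    exact SModEq.mono (h1 n) (hx _)
  · obtain ⟨L, hL⟩ := IsPrecomplete.prec (I := I) inferInstance (f := fun n => f ((N + 1) * n))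
      (fun {m n} hmn => SModEq.mono (h1 m) (hf (Nat.mul_le_mul_left _ hmn)))
    refine ⟨L, fun n => (hf (Nat.le_mul_of_pos_left n N.succ_pos)).trans (SModEq.mono (h2 n) (hL n))⟩

end Groth.Agent.Lib.Adic.Transfer
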