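import Groth.Agent.Lib.Adic.Complete

/-! Inverse limits of systems of modules with kernels given by powers of an ideal. -/

set_option autoImplicit false
set_option linter.unusedSectionVars false

universe u v w

namespace Groth.Agent.Lib.Adic.Limit

open Submodule

variable {A : Type u} [CommRing A] {I : Ideal A}
variable {M : ℕ → Type v} [∀ n, AddCommGroup (M n)] [∀ n, Module A (M n)]
variable {f : ∀ n, M (n + 1) →ₗ[A] M n}
variable {L : Type v} [AddCommGroup L] [Module A L] {π : ∀ n, L →ₗ[A] M n}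

/-- The data of an inverse limit of a surjective system whose kernels are powers of `I`. -/
structure IsSys (I : Ideal A) (f : ∀ n, M (n + 1) →ₗ[A] M n) (π : ∀ n, L →ₗ[A] M n) : Prop where
  hf : ∀ n, Function.Surjective (f n)
  hker : ∀ n, LinearMap.ker (f n) = I ^ (n + 1) • (⊤ : Submodule A (M (n + 1)))
  hπ : ∀ n, f n ∘ₗ π (n + 1) = π n
  hinj : ∀ x : L, (∀ n, π n x = 0) → x = 0
  hlift : ∀ y : (∀ n, M n), (∀ n, f n (y (n + 1)) = y n) → ∃ x : L, ∀ n, π n x = y n

theorem ker_le (h : IsSys I f π) {m n : ℕ} (hmn : m ≤ n) :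
    LinearMap.ker (π n) ≤ LinearMap.ker (π m) := by
  induction hmn with
  | refl => exact le_rfl
  | @step k _ ih =>
      refine le_trans ?_ ih
      intro x hx
      rw [LinearMap.mem_ker] at hx ⊢
      rw [← h.hπ k, LinearMap.comp_apply, hx, map_zero]

theorem surjective (h : IsSys I f π) (n : ℕ) : Function.Surjective (π n) := by
  intro y
  classical
  choose g hg using h.hf
  have main : ∀ k, ∀ y : M k, ∃ z : ∀ m, M m, (∀ m, m < k → f m (z (m + 1)) = z m) ∧ z k = y := by
    intro k
    induction k with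
    | zero => exact fun y => ⟨fun m => Nat.rec (motive := fun m => M m) y (fun m zm => g m zm) m,
        fun m hm => absurd hm (Nat.not_lt_zero m), rfl⟩
    | succ k ih =>
        intro y
        obtain ⟨z, hz, hzk⟩ := ih (f k y)
        refine ⟨Function.update z (k + 1) y, fun m hm => ?_, by simp⟩
        rw [Function.update_of_ne (by omega : m ≠ k + 1)]
        by_cases hmk : m = k
        · subst hmk
          rw [Function.update_self, hzk]
        · rw [Function.update_of_ne (by omega)]
          exact hz m (by omega)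
  obtain ⟨z, hz, hzy⟩ := main n y
  let w : ∀ m, M m := fun m => Nat.rec (motive := fun m => M m) (z 0)
    (fun m wm => if m + 1 ≤ n then z (m + 1) else g m wm) m
  have hw : ∀ j, j ≤ n → w j = z j := by
    intro j hj
    cases j with
    | zero => rfl
    | succ j => exact if_pos hj
  obtain ⟨x, hx⟩ := h.hlift w fun m => by
    by_cases hm : m + 1 ≤ n
    · rw [hw _ hm, hw _ (by omega)]
      exact hz m (by omega)
    · change f m (if m + 1 ≤ n then _ else g m (w m)) = w m
      rw [if_neg hm, hg]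
  exact ⟨x, (hx n).trans ((hw n le_rfl).trans hzy)⟩

theorem annihilated (h : IsSys I f π) (n : ℕ) :
    I ^ (n + 1) • (⊤ : Submodule A (M n)) = ⊥ := by
  rw [← LinearMap.range_eq_top.2 (h.hf n), ← Submodule.map_top, ← map_smul'', ← h.hker n]
  exact eq_bot_iff.2 (map_le_iff_le_comap.2 fun x hx => hx)

theorem smul_le_ker (h : IsSys I f π) (n : ℕ) :
    I ^ (n + 1) • (⊤ : Submodule A L) ≤ LinearMap.ker (π n) := by
  intro x hx
  have := mem_map_of_mem (f := π n) hx
  rw [map_smul''] at this
  have := smul_mono le_rfl le_top this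
  rw [annihilated h n] at this
  exact this

theorem ker_le_smul_sup (h : IsSys I f π) (m : ℕ) :
    LinearMap.ker (π m) ≤ I ^ (m + 1) • (⊤ : Submodule A L) ⊔ LinearMap.ker (π (m + 1)) := by
  intro x hx
  have hmem : π (m + 1) x ∈ I ^ (m + 1) • (⊤ : Submodule A (M (m + 1))) := by
    rw [← h.hker m, LinearMap.mem_ker, ← LinearMap.comp_apply, h.hπ]
    exact hx
  rw [← LinearMap.range_eq_top.2 (surjective h (m + 1)), ← Submodule.map_top, ← map_smul''] at hmem
  obtain ⟨x', hx', he⟩ := hmem
  exact mem_sup.2 ⟨x', hx', x - x', by simp [he], by abel⟩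

theorem exists_limit (h : IsSys I f π) {s : ℕ → L}
    (hs : ∀ n, s (n + 1) - s n ∈ LinearMap.ker (π n)) :
    ∃ y : L, ∀ n, y - s n ∈ LinearMap.ker (π n) := by
  obtain ⟨y, hy⟩ := h.hlift (fun n => π n (s n)) (fun n => by
    have := hs n
    rw [LinearMap.mem_ker, map_sub, sub_eq_zero] at this
    rw [← LinearMap.comp_apply, h.hπ, this])
  exact ⟨y, fun n => by simp [hy n]⟩

theorem ker_eq (h : IsSys I f π) (hI : I.FG) (n : ℕ) :
    LinearMap.ker (π n) = I ^ (n + 1) • (⊤ : Submodule A L) := by
  refine le_antisymm (fun x hx => ?_) (smul_le_ker h n)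
  obtain ⟨r, g, hg⟩ := Submodule.fg_iff_exists_fin_generating_family.1
    (Submodule.FG.pow hI (n + 1))
  let G : (Fin r → L) →ₗ[A] L := ∑ j, g j • LinearMap.proj j
  have hG : ∀ c, G c = ∑ j, g j • c j := fun c => by simp [G]
  have hdec : ∀ (t : ℕ) (a : L), a ∈ I ^ (n + 1) • (I ^ t • (⊤ : Submodule A L)) →
      ∃ l : Fin r → L, (∀ j, l j ∈ I ^ t • (⊤ : Submodule A L)) ∧ G l = a := by
    intro t a ha
    induction ha using Submodule.smul_induction_on' with
    | smul c hc y hy =>
        rw [← hg] at hc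
        obtain ⟨e, he⟩ := (mem_span_range_iff_exists_fun A).1 hc
        refine ⟨fun j => e j • y, fun j => smul_mem _ _ hy, ?_⟩
        rw [hG, ← he, Finset.sum_smul]
        exact Finset.sum_congr rfl fun j _ => by rw [smul_eq_mul, mul_comm, mul_smul]
    | add a₁ _ a₂ _ h₁ h₂ =>
        obtain ⟨l₁, hl₁, e₁⟩ := h₁
        obtain ⟨l₂, hl₂, e₂⟩ := h₂
        exact ⟨l₁ + l₂, fun j => add_mem (hl₁ j) (hl₂ j), by rw [map_add, e₁, e₂]⟩
  have hstep : ∀ t : ℕ, ∀ z : L, z ∈ LinearMap.ker (π (n + t)) →
      ∃ l : Fin r → L, (∀ j, l j ∈ I ^ t • (⊤ : Submodule A L)) ∧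
        z - G l ∈ LinearMap.ker (π (n + t + 1)) := by
    intro t z hz
    obtain ⟨a, ha, b, hb, rfl⟩ := mem_sup.1 (ker_le_smul_sup h (n + t) hz)
    rw [show n + t + 1 = (n + 1) + t by omega, pow_add, mul_smul] at ha
    obtain ⟨l, hl, hla⟩ := hdec t a ha
    exact ⟨l, hl, by rw [hla, add_sub_cancel_left]; exact hb⟩
  choose! l hl hl' using hstep
  let s : ℕ → (Fin r → L) := fun t => Nat.rec 0 (fun t st => st + l t (x - G st)) t
  have hs : ∀ t, x - G (s t) ∈ LinearMap.ker (π (n + t)) := by
    intro t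
    induction t with
    | zero => simpa [s] using hx
    | succ t ih =>
        have : x - G (s (t + 1)) = x - G (s t) - G (l t (x - G (s t))) := by
          change x - G (s t + l t (x - G (s t))) = _
          rw [map_add, sub_sub]
        rw [this]
        exact hl' t _ ih
  have hlim : ∀ j, ∃ y : L, ∀ k, y - s (k + 1) j ∈ LinearMap.ker (π k) := fun j =>
    exists_limit h (s := fun k => s (k + 1) j) fun k => by
      have hstep' := hl (k + 1) _ (hs (k + 1)) j
      have : s (k + 1 + 1) j - s (k + 1) j = l (k + 1) (x - G (s (k + 1))) j := by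
        change (s (k + 1) + l (k + 1) (x - G (s (k + 1)))) j - s (k + 1) j = _
        rw [Pi.add_apply, add_sub_cancel_left]
      rw [this]
      exact smul_le_ker h k hstep'
  choose y hy using hlim
  have hxy : x = G y := by
    refine sub_eq_zero.1 (h.hinj _ fun k => ?_)
    have h1 : π k (x - G (s (k + 1))) = 0 := ker_le h (by omega) (hs (k + 1))
    have h2 : π k (G y) = π k (G (s (k + 1))) := by
      rw [hG, hG, map_sum, map_sum]
      refine Finset.sum_congr rfl fun j _ => ?_
      have := hy j k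
      rw [LinearMap.mem_ker, map_sub, sub_eq_zero] at this
      rw [map_smul, map_smul, this]
    rw [map_sub] at h1 ⊢
    rw [h2, h1]
  rw [hxy, hG]
  exact sum_mem fun j _ => smul_mem_smul (hg ▸ subset_span ⟨j, rfl⟩) mem_top

theorem isAdicComplete_of_ker_eq (h : IsSys I f π)
    (hk : ∀ n, LinearMap.ker (π n) = I ^ (n + 1) • (⊤ : Submodule A L)) :
    IsAdicComplete I L where
  haus' x hx := h.hinj x fun n => by
    have := SModEq.zero.1 (hx (n + 1))
    rwa [← hk] at this
  prec' s hs := by
    obtain ⟨y, hy⟩ := exists_limit h (s := fun k => s (k + 1)) fun k => by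
      rw [hk, ← SModEq.sub_mem]
      exact (hs (Nat.le_succ (k + 1))).symm
    refine ⟨y, fun k => ?_⟩
    cases k with
    | zero => rw [SModEq.sub_mem]; simp
    | succ k =>
        rw [SModEq.sub_mem, ← hk k, ← neg_mem_iff, neg_sub]
        exact hy k

theorem isAdicComplete (h : IsSys I f π) (hI : I.FG) : IsAdicComplete I L :=
  isAdicComplete_of_ker_eq h (ker_eq h hI)

/-- Lifts of generators of the bottom level generate all levels. -/
theorem surjective_of_level_zero (h : IsSys I f π) {F : Type w} [AddCommGroup F] [Module A F]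
    {φ : F →ₗ[A] L} (h0 : Function.Surjective (π 0 ∘ₗ φ)) (n : ℕ) :
    Function.Surjective (π n ∘ₗ φ) := by
  induction n with
  | zero => exact h0
  | succ n ih =>
      have hsup : (⊤ : Submodule A (M (n + 1))) ≤
          LinearMap.range (π (n + 1) ∘ₗ φ) ⊔ I ^ (n + 1) • ⊤ := by
        intro y _
        obtain ⟨c, hc⟩ := ih (f n y)
        refine mem_sup.2 ⟨_, ⟨c, rfl⟩, y - π (n + 1) (φ c), ?_, add_sub_cancel _ _⟩
        rw [← h.hker, LinearMap.mem_ker, map_sub, ← LinearMap.comp_apply (f n), h.hπ,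
          ← LinearMap.comp_apply (π n), hc, sub_self]
      have hstable : I ^ (n + 1) • (⊤ : Submodule A (M (n + 1))) ≤
          LinearMap.range (π (n + 1) ∘ₗ φ) := by
        refine le_trans (smul_mono le_rfl hsup) ?_
        rw [Submodule.smul_sup, ← mul_smul, ← pow_add]
        refine sup_le smul_le_right ?_
        refine le_trans (smul_mono (Ideal.pow_le_pow_right (by omega : n + 1 + 1 ≤ n + 1 + (n + 1)))
          le_rfl) ?_
        rw [annihilated h]
        exact bot_le
      rw [← LinearMap.range_eq_top]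
      exact top_le_iff.1 (hsup.trans (sup_le le_rfl hstable))

/-- Approximate preimages can be refined, when the source is precomplete. -/
theorem exists_preimage (h : IsSys I f π) {F : Type w} [AddCommGroup F] [Module A F]
    [IsPrecomplete I F] {φ : F →ₗ[A] L} (h0 : Function.Surjective (π 0 ∘ₗ φ)) (n : ℕ)
    (x : L) (c₀ : F) (hc₀ : x - φ c₀ ∈ LinearMap.ker (π n)) :
    ∃ c : F, φ c = x ∧ c - c₀ ∈ I ^ (n + 1) • (⊤ : Submodule A F) := by
  have hstep : ∀ t, ∀ c : F, x - φ c ∈ LinearMap.ker (π (n + t)) →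
      ∃ d, d ∈ I ^ (n + t + 1) • (⊤ : Submodule A F) ∧
        x - φ (c + d) ∈ LinearMap.ker (π (n + t + 1)) := by
    intro t c hc
    have hmem : π (n + t + 1) (x - φ c) ∈ I ^ (n + t + 1) • (⊤ : Submodule A (M (n + t + 1))) := by
      rw [← h.hker, LinearMap.mem_ker, ← LinearMap.comp_apply, h.hπ]
      exact hc
    rw [← LinearMap.range_eq_top.2 (surjective_of_level_zero h h0 (n + t + 1)),
      ← Submodule.map_top, ← map_smul''] at hmem
    obtain ⟨d, hd, he⟩ := hmem
    refine ⟨d, hd, ?_⟩
    rw [LinearMap.mem_ker, map_add, ← sub_sub, map_sub, ← he, LinearMap.comp_apply, sub_self]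
  choose! d hd hd' using hstep
  let s : ℕ → F := fun t => Nat.rec c₀ (fun t st => st + d t st) t
  have hs : ∀ t, x - φ (s t) ∈ LinearMap.ker (π (n + t)) := by
    intro t
    induction t with
    | zero => exact hc₀
    | succ t ih => exact hd' t _ ih
  have hsdiff : ∀ t, s (t + 1) - s t ∈ I ^ (n + t + 1) • (⊤ : Submodule A F) := by
    intro t
    change s t + d t (s t) - s t ∈ _
    rw [add_sub_cancel_left]
    exact hd t _ (hs t)
  have hcauchy : ∀ {a b : ℕ}, a ≤ b → s b - s a ∈ I ^ (n + a + 1) • (⊤ : Submodule A F) := by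
    intro a b hab
    induction hab with
    | refl => simp
    | @step b hab ih =>
        rw [← sub_add_sub_cancel (s (b + 1)) (s b) (s a)]
        exact add_mem (smul_mono (Ideal.pow_le_pow_right (by have : a ≤ b := hab; omega)) le_rfl (hsdiff b)) ih
  obtain ⟨c, hc⟩ := IsPrecomplete.prec (I := I) ‹IsPrecomplete I F› (f := s) (fun {a b} hab => by
    refine SModEq.symm (SModEq.sub_mem.2 ?_)
    exact smul_mono (Ideal.pow_le_pow_right (by omega)) le_rfl (hcauchy hab))
  refine ⟨c, (sub_eq_zero.1 (h.hinj _ fun k => ?_)).symm, ?_⟩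
  · have hck := SModEq.sub_mem.1 (hc (k + 1)).symm
    have h1 := smul_le_ker h k (smul_mono le_rfl le_top
      ((map_smul'' (I ^ (k + 1)) ⊤ φ) ▸ mem_map_of_mem (f := φ) hck))
    have h2 : π k (x - φ (s (k + 1))) = 0 := ker_le h (by omega) (hs (k + 1))
    rw [LinearMap.mem_ker, map_sub, map_sub, sub_eq_zero] at h1
    rw [map_sub] at h2 ⊢
    rw [h1, h2]
  · rw [← sub_add_sub_cancel c (s (n + 1)) c₀]
    refine add_mem (SModEq.sub_mem.1 (hc (n + 1)).symm) ?_
    have := hcauchy (Nat.zero_le (n + 1))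
    simpa [s] using this

theorem of_complete_base (h : IsSys I f π) [IsAdicComplete I A] (h0 : Module.Finite A (M 0)) :
    Module.Finite A L ∧ IsAdicComplete I L ∧
      ∀ n, Function.Surjective (π n) ∧ LinearMap.ker (π n) = I ^ (n + 1) • (⊤ : Submodule A L) := by
  obtain ⟨r, p, hp⟩ := Module.Finite.exists_fin' A (M 0)
  choose g hg using fun i : Fin r => surjective h 0 (p (Pi.single i 1))
  let φ : (Fin r → A) →ₗ[A] L := Fintype.linearCombination A g
  have hφ : π 0 ∘ₗ φ = p := by
    refine LinearMap.pi_ext' fun i => LinearMap.ext_ring ?_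
    simp [φ, hg]
  have hsurj0 : Function.Surjective (π 0 ∘ₗ φ) := hφ ▸ hp
  haveI := Complete.isPrecomplete_pi (I := I) (Fin r)
  have hφs : Function.Surjective φ := fun x => by
    obtain ⟨c₀, hc₀⟩ := hsurj0 (π 0 x)
    obtain ⟨c, hc, -⟩ := exists_preimage h hsurj0 0 x c₀ (by
      rw [LinearMap.mem_ker, map_sub, sub_eq_zero]
      exact hc₀.symm)
    exact ⟨c, hc⟩
  have hk : ∀ n, LinearMap.ker (π n) = I ^ (n + 1) • (⊤ : Submodule A L) := fun n => by
    refine le_antisymm (fun x hx => ?_) (smul_le_ker h n)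
    obtain ⟨c, hc, hcmem⟩ := exists_preimage h hsurj0 n x 0 (by rwa [map_zero, sub_zero])
    rw [← hc]
    rw [sub_zero] at hcmem
    have := mem_map_of_mem (f := φ) hcmem
    rw [map_smul''] at this
    exact smul_mono le_rfl le_top this
  exact ⟨Module.Finite.of_surjective φ hφs, isAdicComplete_of_ker_eq h hk,
    fun n => ⟨surjective h n, hk n⟩⟩

end Groth.Agent.Lib.Adic.Limit
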