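import Groth.Agent.Lib.Adic.Complete
import Groth.Agent.Lib.Excellent.CompletionNoetherian
import Mathlib.RingTheory.AdicCompletion.AsTensorProduct
import Mathlib.RingTheory.TensorProduct.Quotient
import Mathlib.RingTheory.Localization.Away.Basic

/-! Quotients of completions by primes with complete quotient, and completed principal localisations. -/

set_option autoImplicit false
set_option linter.style.haveILetI false

universe u

open scoped TensorProduct

namespace Groth.Agent.Lib.Adic.RigLoc

variable {R : Type u} [CommRing R] [IsNoetherianRing R] (J P : Ideal R)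

/-- If `R/P` is complete, completing changes nothing modulo `P`. -/
theorem bijective_quotientMap [IsAdicComplete J (R ⧸ P)] :
    Function.Bijective (Ideal.quotientMap (P.map (algebraMap R (AdicCompletion J R)))
      (algebraMap R (AdicCompletion J R)) Ideal.le_comap_map : R ⧸ P →+* _) := by
  let T := AdicCompletion J R
  let e : (T ⧸ P.map (algebraMap R T)) ≃ₗ[R] R ⧸ P :=
    (((Algebra.TensorProduct.quotIdealMapEquivTensorQuot T P).toLinearEquiv.restrictScalars R).trans
      ((AdicCompletion.ofTensorProductEquivOfFiniteNoetherian J (R ⧸ P)).restrictScalars R)).trans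
        (AdicCompletion.ofLinearEquiv J (R ⧸ P)).symm
  have he : ∀ x : R ⧸ P,
      e (Ideal.quotientMap (P.map (algebraMap R T)) (algebraMap R T) Ideal.le_comap_map x) = x := by
    intro x
    obtain ⟨r, rfl⟩ := Ideal.Quotient.mk_surjective x
    rw [Ideal.quotientMap_mk]
    change (AdicCompletion.ofLinearEquiv J (R ⧸ P)).symm
      (AdicCompletion.ofTensorProduct J (R ⧸ P)
        (Algebra.TensorProduct.quotIdealMapEquivTensorQuot T P (Ideal.Quotient.mk _ (algebraMap R T r)))) = _
    rw [LinearEquiv.symm_apply_eq, Algebra.TensorProduct.quotIdealMapEquivTensorQuot_mk,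
      AdicCompletion.ofTensorProduct_tmul, algebraMap_smul, ← map_smul]
    change AdicCompletion.of J _ (r • (1 : R ⧸ P)) = AdicCompletion.of J _ (Ideal.Quotient.mk P r)
    rw [Algebra.smul_def, mul_one, Ideal.Quotient.algebraMap_eq]
  refine ⟨Function.LeftInverse.injective he, fun y => ⟨e y, e.injective (he _)⟩⟩

theorem map_comap_eq [IsAdicComplete J (R ⧸ P)] :
    (P.map (algebraMap R (AdicCompletion J R))).comap (algebraMap R (AdicCompletion J R)) = P := by
  refine le_antisymm (fun x hx => ?_) Ideal.le_comap_map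
  rw [← Ideal.Quotient.eq_zero_iff_mem]
  refine (bijective_quotientMap J P).1 ?_
  rw [Ideal.quotientMap_mk, map_zero]
  exact Ideal.Quotient.eq_zero_iff_mem.2 hx

theorem isPrime_map [P.IsPrime] [IsAdicComplete J (R ⧸ P)] :
    (P.map (algebraMap R (AdicCompletion J R))).IsPrime := by
  rw [← Ideal.Quotient.isDomain_iff_prime]
  exact ((RingEquiv.ofBijective _ (bijective_quotientMap J P)).symm).toMulEquiv.isDomain (R ⧸ P)

/-- A prime of the completion contracting to `P` equals `PT`, given that `T/PT` is `R/P`. -/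
theorem eq_map_of_comap_eq [IsAdicComplete J (R ⧸ P)] (Q : Ideal (AdicCompletion J R))
    (hQ : Q.comap (algebraMap R (AdicCompletion J R)) = P) :
    Q = P.map (algebraMap R (AdicCompletion J R)) := by
  refine le_antisymm (fun y hy => ?_) (Ideal.map_le_iff_le_comap.2 hQ.ge)
  obtain ⟨x, hx⟩ := (bijective_quotientMap J P).2 (Ideal.Quotient.mk _ y)
  obtain ⟨r, rfl⟩ := Ideal.Quotient.mk_surjective x
  rw [Ideal.quotientMap_mk, Ideal.Quotient.eq] at hx
  have hr : r ∈ P := by
    rw [← hQ, Ideal.mem_comap]
    simpa using Q.add_mem (Ideal.map_le_iff_le_comap.2 hQ.ge hx) hy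
  simpa using sub_mem (Ideal.mem_map_of_mem (algebraMap R (AdicCompletion J R)) hr) hx

section Finite

variable {A : Type u} [CommRing A] [IsNoetherianRing A] (I : Ideal A) [IsAdicComplete I A] [Algebra A R]

omit [IsNoetherianRing R] in
/-- A quotient finite over the complete base is complete. -/
theorem isAdicComplete_of_finite [Module.Finite A (R ⧸ P)] :
    IsAdicComplete (I.map (algebraMap A R)) (R ⧸ P) :=
  (IsAdicComplete.map_algebraMap_iff (S := R) I (R ⧸ P)).2 Complete.isAdicComplete_of_finite

end Finite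

section Away

variable {A : Type u} [CommRing A] (f : A) (p : Ideal A) (L : Type u) [CommRing L] [Algebra A L]
  [IsLocalization.Away f L]

/-- If `f` is a unit modulo `p` then inverting `f` changes nothing modulo `p`. -/
theorem surjective_quotientMap_away (hf : IsUnit (Ideal.Quotient.mk p f)) :
    Function.Surjective (algebraMap A (L ⧸ p.map (algebraMap A L))) := by
  intro y
  obtain ⟨y, rfl⟩ := Ideal.Quotient.mk_surjective y
  obtain ⟨k, a, ha⟩ := IsLocalization.Away.surj f y
  obtain ⟨g, hg⟩ := Ideal.Quotient.mk_surjective hf.unit⁻¹.val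
  have h1 : Ideal.Quotient.mk p (f * g) = 1 := by rw [map_mul, hg]; exact hf.mul_val_inv
  have h2 : algebraMap A (L ⧸ p.map (algebraMap A L)) (f * g) = 1 := by
    rw [← map_one (algebraMap A (L ⧸ p.map (algebraMap A L))), ← sub_eq_zero, ← map_sub,
      IsScalarTower.algebraMap_apply A L, Ideal.Quotient.algebraMap_eq, Ideal.Quotient.eq_zero_iff_mem]
    refine Ideal.mem_map_of_mem _ ?_
    rw [← Ideal.Quotient.eq_zero_iff_mem, map_sub, h1, map_one, sub_self]
  refine ⟨a * g ^ k, ?_⟩
  rw [map_mul, map_pow]
  have h3 : algebraMap A (L ⧸ p.map (algebraMap A L)) a =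
      Ideal.Quotient.mk _ y * algebraMap A (L ⧸ p.map (algebraMap A L)) f ^ k := by
    rw [IsScalarTower.algebraMap_apply A L (L ⧸ p.map (algebraMap A L)) a, ← ha, map_mul, map_pow,
      Ideal.Quotient.algebraMap_eq]
    rfl
  rw [h3, mul_assoc, ← mul_pow, ← map_mul, h2, one_pow, mul_one]

theorem finite_away (hf : IsUnit (Ideal.Quotient.mk p f)) :
    Module.Finite A (L ⧸ p.map (algebraMap A L)) :=
  Module.Finite.of_surjective (Algebra.linearMap A _) (surjective_quotientMap_away f p L hf)

theorem notMem_of_isUnit [p.IsPrime] (hf : IsUnit (Ideal.Quotient.mk p f)) : f ∉ p := fun h => by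
  rw [Ideal.Quotient.eq_zero_iff_mem.2 h] at hf
  exact not_isUnit_zero hf

theorem comap_map_away [p.IsPrime] (hf : f ∉ p) :
    (p.map (algebraMap A L)).comap (algebraMap A L) = p :=
  IsLocalization.comap_map_of_isPrime_disjoint (Submonoid.powers f) L ‹_› (by
    rw [Set.disjoint_left]
    rintro _ ⟨k, rfl⟩ hk
    exact hf (Ideal.IsPrime.mem_of_pow_mem ‹_› k hk))

theorem isPrime_map_away [p.IsPrime] (hf : f ∉ p) : (p.map (algebraMap A L)).IsPrime :=
  IsLocalization.isPrime_of_isPrime_disjoint (Submonoid.powers f) L _ ‹_› (by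
    rw [Set.disjoint_left]
    rintro _ ⟨k, rfl⟩ hk
    exact hf (Ideal.IsPrime.mem_of_pow_mem ‹_› k hk))

end Away

end Groth.Agent.Lib.Adic.RigLoc
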