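import Groth.Agent.Lib.Adic.Limit

/-! Inverse limits of systems of rings with kernels given by powers of the kernel to level zero. -/

set_option autoImplicit false
set_option linter.unusedSectionVars false

universe u v

namespace Groth.Agent.Lib.Adic.RingLimit

open Submodule

theorem surjective_proj {M : ℕ → Type v} {f : ∀ n, M (n + 1) → M n}
    (hf : ∀ n, Function.Surjective (f n)) {L : Type u} {π : ∀ n, L → M n}
    (hlift : ∀ y : (∀ n, M n), (∀ n, f n (y (n + 1)) = y n) → ∃ x : L, ∀ n, π n x = y n) (n : ℕ) :
    Function.Surjective (π n) := by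
  intro y
  classical
  choose g hg using hf
  have main : ∀ k, ∀ y : M k, ∃ z : ∀ m, M m, (∀ m, m < k → f m (z (m + 1)) = z m) ∧ z k = y := by
    intro k
    induction k with
    | zero => exact fun y => ⟨fun m => Nat.rec (motive := fun m => M m) y (fun m zm => g m zm) m,
        fun m hm => absurd hm (Nat.not_lt_zero m), rfl⟩
    | succ k ih =>
        intro y
        obtain ⟨z, hz, hzk⟩ := ih (f k y)
        refine ⟨Function.update z (k + 1) y, fun m hm => ?_, by simp⟩
        rw [Function.update_of_ne (by omega : m ≠ k + 1)]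
        by_cases hmk : m = k
        · subst hmk
          rw [Function.update_self, hzk]
        · rw [Function.update_of_ne (by omega)]
          exact hz m (by omega)
  obtain ⟨z, hz, hzy⟩ := main n y
  let w : ∀ m, M m := fun m => Nat.rec (motive := fun m => M m) (z 0)
    (fun m wm => if m + 1 ≤ n then z (m + 1) else g m wm) m
  have hw : ∀ j, j ≤ n → w j = z j := by
    intro j hj
    cases j with
    | zero => rfl
    | succ j => exact if_pos hj
  obtain ⟨x, hx⟩ := hlift w fun m => by
    by_cases hm : m + 1 ≤ n
    · rw [hw _ hm, hw _ (by omega)]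
      exact hz m (by omega)
    · change f m (if m + 1 ≤ n then _ else g m (w m)) = w m
      rw [if_neg hm, hg]
  exact ⟨x, (hx n).trans ((hw n le_rfl).trans hzy)⟩

theorem main
    {B : ℕ → Type u} [∀ n, CommRing (B n)]
    {u : ∀ n, B (n + 1) →+* B n} (hu : ∀ n, Function.Surjective (u n))
    {v : ∀ n, B n →+* B 0} (hv0 : v 0 = RingHom.id (B 0)) (hv : ∀ n, (v n).comp (u n) = v (n + 1))
    (hker : ∀ n, RingHom.ker (u n) = RingHom.ker (v (n + 1)) ^ (n + 1))
    (hfg : (RingHom.ker (v 1)).FG)
    {A : Type u} [CommRing A] {p : ∀ n, A →+* B n}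
    (hp : ∀ n, (u n).comp (p (n + 1)) = p n)
    (hinj : ∀ x : A, (∀ n, p n x = 0) → x = 0)
    (hlift : ∀ y : (∀ n, B n), (∀ n, u n (y (n + 1)) = y n) → ∃ x : A, ∀ n, p n x = y n) :
    IsAdicComplete (RingHom.ker (p 0)) A ∧
      (∀ n, Function.Surjective (p n) ∧ RingHom.ker (p n) = RingHom.ker (p 0) ^ (n + 1)) ∧
      (RingHom.ker (p 0)).FG := by
  have hsurj : ∀ n, Function.Surjective (p n) :=
    surjective_proj (f := fun n => u n) (π := fun n => p n) hu hlift
  let J : ∀ n, Ideal (B n) := fun n => RingHom.ker (v n)
  have hJu : ∀ n, (J (n + 1)).map (u n) = J n := fun n => by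
    have : J (n + 1) = (J n).comap (u n) := by
      simp only [J, RingHom.comap_ker, hv n]
    rw [this, Ideal.map_comap_of_surjective _ (hu n)]
  have hnil : ∀ n, J n ^ (n + 1) = ⊥ := fun n => by
    rw [← hJu n, ← Ideal.map_pow, ← hker n]
    exact (Ideal.map_eq_bot_iff_le_ker _).2 le_rfl
  have hvp : ∀ n, (v n).comp (p n) = p 0 := fun n => by
    induction n with
    | zero => rw [hv0, RingHom.id_comp]
    | succ n ih => rw [← hv n, RingHom.comp_assoc, hp n, ih]
  obtain ⟨s, hs⟩ := hfg
  classical
  choose g hg using hsurj 1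
  let I : Ideal A := Ideal.span (s.image g : Finset A)
  have hI : I.FG := ⟨_, rfl⟩
  have hI1 : I.map (p 1) = J 1 := by
    rw [Ideal.map_span, Finset.coe_image, Set.image_image]
    simp only [hg, Set.image_id']
    exact hs
  have hImap : ∀ n, I.map (p n) = J n := by
    intro n
    induction n with
    | zero =>
        change I.map (p 0) = RingHom.ker (v 0)
        rw [← hvp 1, ← Ideal.map_map, hI1, hv0, (Ideal.map_eq_bot_iff_le_ker _).2 le_rfl]
        exact ((RingHom.injective_iff_ker_eq_bot _).1 fun _ _ h => h).symm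
    | succ m ih =>
      match m, ih with
      | 0, _ => exact hI1
      | n + 1, ih =>
        set P := I.map (p (n + 2)) with hP
        have hPJ : P ≤ J (n + 2) := by
          rw [hP, Ideal.map_le_iff_le_comap]
          change I ≤ Ideal.comap (p (n + 2)) (RingHom.ker (v (n + 2)))
          rw [RingHom.comap_ker, hvp, ← hvp 1, ← RingHom.comap_ker, ← Ideal.map_le_iff_le_comap, hI1]
        have hle : J (n + 2) ≤ P ⊔ J (n + 2) ^ 2 := by
          intro x hx
          have : u (n + 1) x ∈ P.map (u (n + 1)) := by
            rw [hP, Ideal.map_map, hp, ih, ← hJu (n + 1)]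
            exact Ideal.mem_map_of_mem _ hx
          obtain ⟨y, hy, hxy⟩ := (Ideal.mem_map_iff_of_surjective _ (hu _)).1 this
          refine Submodule.mem_sup.2 ⟨y, hy, x - y, ?_, add_sub_cancel _ _⟩
          refine Ideal.pow_le_pow_right (by omega : 2 ≤ n + 1 + 1) ?_
          rw [← hker (n + 1), RingHom.mem_ker, map_sub, hxy, sub_self]
        have hpow : ∀ k, J (n + 2) ≤ P ⊔ J (n + 2) ^ (k + 1) := by
          intro k
          induction k with
          | zero => simp
          | succ k ihk =>
              refine ihk.trans (sup_le le_sup_left ?_)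
              refine le_trans (pow_succ (J (n + 2)) k ▸ Ideal.mul_mono le_rfl hle) ?_
              rw [Ideal.mul_sup]
              refine sup_le (Ideal.mul_le_right.trans le_sup_left) (le_trans ?_ le_sup_right)
              rw [← pow_add]
        refine le_antisymm hPJ (le_trans (hpow (n + 2)) (sup_le le_rfl ?_))
        rw [hnil]
        exact bot_le
  letI : ∀ n, Module A (B n) := fun n => Module.compHom (B n) (p n)
  letI : ∀ n, Algebra A (B n) := fun n => (p n).toAlgebra
  let f : ∀ n, B (n + 1) →ₗ[A] B n := fun n =>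
    { toFun := u n
      map_add' := (u n).map_add
      map_smul' := fun a b => by
        change u n (p (n + 1) a * b) = p n a * u n b
        rw [map_mul, ← RingHom.comp_apply, hp] }
  let π : ∀ n, A →ₗ[A] B n := fun n =>
    { toFun := p n
      map_add' := (p n).map_add
      map_smul' := fun a b => by
        change p n (a * b) = p n a * p n b
        rw [map_mul] }
  have h : Limit.IsSys I f π := by
    refine ⟨hu, fun n => ?_, fun n => LinearMap.ext fun x => RingHom.congr_fun (hp n) x, hinj, hlift⟩
    have e : (I ^ (n + 1) • ⊤ : Submodule A (B (n + 1))) =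
        ((I ^ (n + 1)).map (p (n + 1))).restrictScalars A := Ideal.smul_top_eq_map _
    ext x
    rw [e, Submodule.restrictScalars_mem, Ideal.map_pow, hImap, ← hker n]
    rfl
  have hk : ∀ n, RingHom.ker (p n) = I ^ (n + 1) := fun n => by
    ext x
    rw [← Complete.pow_mul_top (I := I), ← Limit.ker_eq h hI n]
    rfl
  have hk0 : RingHom.ker (p 0) = I := by rw [hk 0, pow_one]
  rw [hk0]
  exact ⟨Limit.isAdicComplete h hI, fun n => ⟨hsurj n, hk n⟩, hI⟩

end Groth.Agent.Lib.Adic.RingLimit
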