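import Groth.Prelude.Def_W4bk4boschfrg79

/-! Elementary facts on the base rings of classes (N) and (V). -/

set_option autoImplicit false

universe u

namespace Groth.Agent.Lib.Adic.Base

theorem isBase_fg {R : Type u} [CommRing R] {I : Ideal R} (hR : AdicRing.IsBase R I) : I.FG := by
  rcases hR.2 with ⟨hN, -⟩ | ⟨-, -, -, t, -, rfl⟩
  · exact (isNoetherianRing_iff_ideal_fg R).1 hN I
  · exact Submodule.fg_span_singleton t

end Groth.Agent.Lib.Adic.Base
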