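import Groth.Agent.Lib.Adic.Complete
import Mathlib.RingTheory.AdicCompletion.Completeness
import Mathlib.RingTheory.AdicCompletion.RingHom
import Mathlib.RingTheory.MvPolynomial.Basic
import Mathlib.RingTheory.FiniteType

/-! Evaluation homomorphisms out of restricted power series. -/

set_option autoImplicit false
set_option linter.unusedSectionVars false

universe u v

namespace Groth.Agent.Lib.Adic.Restricted

open MvPolynomial

variable {A : Type u} [CommRing A] (I : Ideal A)

/-- The model of restricted power series: the completion of the polynomial ring. -/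
abbrev RS (r : ℕ) : Type u :=
  AdicCompletion (I.map (C : A →+* MvPolynomial (Fin r) A)) (MvPolynomial (Fin r) A)

theorem isAdicComplete_RS (hI : I.FG) (r : ℕ) : IsAdicComplete I (RS I r) := by
  have h : IsAdicComplete (I.map (algebraMap A (MvPolynomial (Fin r) A))) (RS I r) :=
    AdicCompletion.isAdicComplete (Ideal.FG.map hI C)
  exact (IsAdicComplete.map_algebraMap_iff I (RS I r)).1 h

variable {B : Type v} [CommRing B] [Algebra A B] [IsAdicComplete (I.map (algebraMap A B)) B]

theorem map_aeval_le {r : ℕ} (b : Fin r → B) (n : ℕ) :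
    (I.map (C : A →+* MvPolynomial (Fin r) A)) ^ n ≤
      Ideal.comap (aeval b) ((I.map (algebraMap A B)) ^ n) := by
  rw [← Ideal.map_le_iff_le_comap, Ideal.map_pow]
  refine Ideal.pow_right_mono ?_ n
  rw [Ideal.map_le_iff_le_comap, Ideal.map_le_iff_le_comap]
  intro a ha
  simpa using Ideal.mem_map_of_mem (algebraMap A B) ha

theorem exists_eval {r : ℕ} (b : Fin r → B) :
    ∃ φ : RS I r →ₐ[A] B, ∀ p, φ (AdicCompletion.of _ _ p) = aeval b p := by
  let f : ∀ n, RS I r →ₐ[A] B ⧸ (I.map (algebraMap A B)) ^ n := fun n =>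
    (Ideal.quotientMapₐ _ (aeval b) (map_aeval_le I b n)).comp
      ((AdicCompletion.evalₐ (I.map (C : A →+* MvPolynomial (Fin r) A)) n).restrictScalars A)
  have hf : ∀ {m n : ℕ} (hle : m ≤ n),
      (Ideal.Quotient.factorₐ A (Ideal.pow_le_pow_right hle)).comp (f n) = f m := by
    intro m n hle
    refine AlgHom.ext fun x => ?_
    induction x using AdicCompletion.induction_on with | _ a => ?_
    change Ideal.Quotient.factor (Ideal.pow_le_pow_right hle)
      (Ideal.quotientMap _ ((aeval b : MvPolynomial (Fin r) A →ₐ[A] B) : MvPolynomial (Fin r) A →+* B) (map_aeval_le I b n)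
        (AdicCompletion.evalₐ _ n (AdicCompletion.mk _ _ a))) =
      Ideal.quotientMap _ ((aeval b : MvPolynomial (Fin r) A →ₐ[A] B) : MvPolynomial (Fin r) A →+* B) (map_aeval_le I b m)
        (AdicCompletion.evalₐ _ m (AdicCompletion.mk _ _ a))
    rw [AdicCompletion.evalₐ_mk, AdicCompletion.evalₐ_mk, Ideal.quotientMap_mk, Ideal.quotientMap_mk,
      Ideal.Quotient.factor_mk, Ideal.Quotient.eq, ← map_sub]
    exact map_aeval_le I b m (Ideal.Quotient.eq.1 (AdicCompletion.Ideal.mk_eq_mk _ hle a))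
  refine ⟨IsAdicComplete.liftAlgHom _ f hf, fun p => ?_⟩
  refine (IsHausdorff.eq_iff_smodEq (I := I.map (algebraMap A B))).2 fun n => ?_
  have h1 := IsAdicComplete.mk_liftAlgHom _ f hf n (AdicCompletion.of _ _ p)
  rw [SModEq.sub_mem, smul_eq_mul, Ideal.mul_top, ← Ideal.Quotient.eq, h1]
  change Ideal.quotientMap _ ((aeval b : MvPolynomial (Fin r) A →ₐ[A] B) : MvPolynomial (Fin r) A →+* B) (map_aeval_le I b n)
    (AdicCompletion.evalₐ _ n (AdicCompletion.of _ _ p)) = _
  rw [AdicCompletion.evalₐ_of, Ideal.quotientMap_mk]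
  rfl

theorem surjective_eval (hI : I.FG) {r : ℕ} (b : Fin r → B) (φ : RS I r →ₐ[A] B)
    (hφ : ∀ p, φ (AdicCompletion.of _ _ p) = aeval b p)
    (h : ∀ y : B, ∃ p : MvPolynomial (Fin r) A, y - aeval b p ∈ I.map (algebraMap A B)) : Function.Surjective φ := by
  haveI := isAdicComplete_RS I hI r
  haveI : IsAdicComplete I B := (IsAdicComplete.map_algebraMap_iff I B).1
    (‹IsAdicComplete (I.map (algebraMap A B)) B›)
  refine surjective_of_mkQ_comp_surjective (I := I) (f := φ.toLinearMap) fun y => ?_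
  obtain ⟨y, rfl⟩ := Submodule.mkQ_surjective _ y
  obtain ⟨p, hp⟩ := h y
  refine ⟨AdicCompletion.of _ _ p, ?_⟩
  rw [LinearMap.comp_apply, Submodule.mkQ_apply, Submodule.mkQ_apply, Submodule.Quotient.eq,
    Ideal.smul_top_eq_map, Submodule.restrictScalars_mem, ← neg_mem_iff, neg_sub]
  rw [AlgHom.toLinearMap_apply, hφ]
  exact hp

theorem exists_aeval_of_finiteType {J : Ideal B} (h : Algebra.FiniteType A (B ⧸ J)) :
    ∃ (r : ℕ) (b : Fin r → B), ∀ y : B, ∃ p : MvPolynomial (Fin r) A, y - aeval b p ∈ J := by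
  obtain ⟨r, g, hg⟩ := Algebra.FiniteType.iff_quotient_mvPolynomial''.1 h
  choose b hb using fun i => Ideal.Quotient.mk_surjective (g (X i))
  refine ⟨r, b, fun y => ?_⟩
  obtain ⟨p, hp⟩ := hg (Ideal.Quotient.mk J y)
  refine ⟨p, Ideal.Quotient.eq.1 ?_⟩
  rw [← hp, ← Ideal.Quotient.mkₐ_eq_mk A, ← AlgHom.comp_apply]
  congr 1
  refine algHom_ext fun i => ?_
  simp [hb]

end Groth.Agent.Lib.Adic.Restricted
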