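import Groth.Prelude.Def_W4bk4boschfrg79
import Mathlib.RingTheory.AdicCompletion.Basic
import Mathlib.RingTheory.AdicCompletion.Algebra
import Mathlib.RingTheory.Flat.TorsionFree
import Mathlib.RingTheory.Valuation.ValuationRing
import Mathlib.RingTheory.KrullDimension.Basic

/-! Valuation rings of height one with an element generating an ideal of definition. -/

set_option autoImplicit false
set_option linter.unusedSectionVars false

universe u v

namespace Groth.Agent.Lib.Adic.Valuation

variable {R : Type u} [CommRing R] [IsDomain R] [ValuationRing R] [Ring.KrullDimLE 1 R] {t : R}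

theorem mem_maximalIdeal [IsAdicComplete (Ideal.span {t}) R] : t ∈ IsLocalRing.maximalIdeal R :=
  (IsAdicComplete.le_jacobson_bot _).trans (IsLocalRing.jacobson_eq_maximalIdeal ⊥ bot_ne_top).le
    (Ideal.mem_span_singleton_self t)

theorem exists_pow_mem [IsAdicComplete (Ideal.span {t}) R] {c : R} (hc : c ≠ 0) :
    ∃ N : ℕ, t ^ N ∈ Ideal.span {c} := by
  change t ∈ (Ideal.span {c}).radical
  rw [Ideal.radical_eq_sInf, Ideal.mem_sInf]
  rintro P ⟨hcP, hP⟩
  have hP0 : P ≠ ⊥ := fun h => hc (Ideal.mem_bot.1 (h ▸ hcP (Ideal.mem_span_singleton_self c)))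
  rw [IsLocalRing.eq_maximalIdeal (hP.isMaximal_of_ne_bot hP0)]
  exact mem_maximalIdeal

/-- A module without `t`-torsion is flat. -/
theorem flat_of_torsionFree [IsAdicComplete (Ideal.span {t}) R]
    {M : Type v} [AddCommGroup M] [Module R M] (h : ∀ x : M, t • x = 0 → x = 0) :
    Module.Flat R M := by
  rw [Module.Flat.flat_iff_torsion_eq_bot_of_isBezout, eq_bot_iff]
  intro x hx
  obtain ⟨c, hc⟩ := (Submodule.mem_torsion_iff x).1 hx
  obtain ⟨N, hN⟩ := exists_pow_mem (t := t) (nonZeroDivisors.coe_ne_zero c)
  obtain ⟨d, hd⟩ := Ideal.mem_span_singleton'.1 hN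
  have hx' : t ^ N • x = 0 := by
    rw [← hd, mul_smul]
    change d • (c • x) = 0
    rw [hc, smul_zero]
  clear hd hN hc
  induction N generalizing x with
  | zero => simpa using hx'
  | succ n ih =>
      rw [pow_succ', mul_smul] at hx'
      have := h _ hx'
      exact ih hx this

/-- The completion along a principal ideal of a torsion-free ring is torsion-free. -/
theorem completion_torsionFree {C : Type v} [CommRing C] {s : C} (hs : IsRightRegular s)
    {J : Ideal C} (hJ : J = Ideal.span {s})
    (x : AdicCompletion J C) (hx : s • x = 0) : x = 0 := by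
  subst hJ
  refine AdicCompletion.ext fun n => ?_
  obtain ⟨c, hc⟩ := Submodule.mkQ_surjective _ (x.val (n + 1))
  have h1 : s * c ∈ (Ideal.span {s} ^ (n + 1) • ⊤ : Submodule C C) := by
    rw [← smul_eq_mul, ← Submodule.Quotient.mk_eq_zero, Submodule.Quotient.mk_smul]
    rw [Submodule.mkQ_apply] at hc
    rw [hc]
    exact congr_arg (fun y : AdicCompletion (Ideal.span {s}) C => y.val (n + 1)) hx
  rw [smul_eq_mul, Ideal.mul_top, Ideal.span_singleton_pow, Ideal.mem_span_singleton'] at h1
  obtain ⟨d, hd⟩ := h1
  have hcd : c = d * s ^ n := hs (show c * s = d * s ^ n * s by rw [mul_comm c, ← hd, pow_succ, mul_assoc])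
  have h2 := x.property (Nat.le_succ n)
  change AdicCompletion.transitionMap _ _ _ (x.val (n + 1)) = x.val n at h2
  rw [← h2, ← hc, AdicCompletion.val_zero_apply]
  change Submodule.Quotient.mk c = 0
  rw [Submodule.Quotient.mk_eq_zero, smul_eq_mul, Ideal.mul_top, Ideal.span_singleton_pow, hcd,
    Ideal.mem_span_singleton']
  exact ⟨d, rfl⟩

end Groth.Agent.Lib.Adic.Valuation
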