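import Groth.Agent.Lib.Adic.Complete
import Groth.Agent.Lib.Adic.Transfer
import Mathlib.RingTheory.Henselian
import Mathlib.RingTheory.Ideal.KrullsHeightTheorem
import Mathlib.RingTheory.Jacobson.Artinian
import Mathlib.RingTheory.Spectrum.Prime.Topology
import Mathlib.RingTheory.Ideal.GoingUp

/-! Rig-closed primes: primes maximal among those not containing an ideal of definition. -/

set_option autoImplicit false
set_option linter.unusedSectionVars false

universe u v

namespace Groth.Agent.Lib.Adic.RigClosed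

/-- The condition `q` is rig-closed for `I`. -/
def IsRigClosed {A : Type u} [CommRing A] (I : Ideal A) (q : PrimeSpectrum A) : Prop :=
  ¬ I ≤ q.asIdeal ∧ ∀ y : PrimeSpectrum A, q ≤ y → ¬ I ≤ y.asIdeal → y = q

theorem le_comap_mk {R : Type u} [CommRing R] (K : Ideal R) (P : Ideal (R ⧸ K)) :
    K ≤ P.comap (Ideal.Quotient.mk K) := fun x hx => by
  rw [Ideal.mem_comap, Ideal.Quotient.eq_zero_iff_mem.2 hx]
  exact P.zero_mem

section Domain

variable {D : Type u} [CommRing D]

theorem exists_pair_of_two_maximals [IsNoetherianRing D] [Ring.KrullDimLE 0 D] {m₁ m₂ : Ideal D}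
    (h₁ : m₁.IsMaximal) (h₂ : m₂.IsMaximal) (hne : m₁ ≠ m₂) :
    ∃ e : D, IsIdempotentElem e ∧ e ≠ 0 ∧ e ≠ 1 := by
  haveI : IsArtinianRing D := isArtinianRing_iff_isNoetherianRing_krullDimLE_zero.2 ⟨‹_›, ‹_›⟩
  let x₁ : PrimeSpectrum D := ⟨m₁, h₁.isPrime⟩
  let x₂ : PrimeSpectrum D := ⟨m₂, h₂.isPrime⟩
  obtain ⟨e, he, hs⟩ := PrimeSpectrum.isClopen_iff.1 (isClopen_discrete ({x₁} : Set (PrimeSpectrum D)))
  have hx : x₂ ≠ x₁ := fun h => hne (congr_arg PrimeSpectrum.asIdeal h).symm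
  refine ⟨e, he, ?_, ?_⟩
  · rintro rfl
    have : x₁ ∈ ((PrimeSpectrum.basicOpen (0 : D) : TopologicalSpace.Opens (PrimeSpectrum D)) :
        Set (PrimeSpectrum D)) := hs ▸ Set.mem_singleton x₁
    simp at this
  · rintro rfl
    have : x₂ ∈ ((PrimeSpectrum.basicOpen (1 : D) : TopologicalSpace.Opens (PrimeSpectrum D)) :
        Set (PrimeSpectrum D)) := by simp
    rw [← hs] at this
    exact hx this

variable [IsDomain D] [IsNoetherianRing D] {J : Ideal D}

theorem krullDimLE_one_of_forall_le (hJ : J ≠ ⊥)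
    (h : ∀ P : Ideal D, P.IsPrime → P ≠ ⊥ → J ≤ P) : Ring.KrullDimLE 1 D := by
  obtain ⟨a, haJ, ha⟩ := Submodule.exists_mem_ne_zero_of_ne_bot hJ
  set S := (Ideal.span {a}).minimalPrimes
  have hfin : S.Finite := Ideal.finite_minimalPrimes_of_isNoetherianRing D _
  have key : ∀ P : Ideal D, P.IsPrime → P ≠ ⊥ → P ∈ S := by
    intro P hP hP0
    by_contra hPS
    have haP : Ideal.span {a} ≤ P := (Ideal.span_singleton_le_iff_mem _).2 (h P hP hP0 haJ)
    have hcov : ¬ (P : Set D) ⊆ ⋃ Q ∈ (↑hfin.toFinset : Set (Ideal D)), (Q : Set D) := by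
      rw [Ideal.subset_union_prime ⊥ ⊥ (fun Q hQ _ _ => (hfin.mem_toFinset.1 hQ).1.1)]
      rintro ⟨Q, hQ, hPQ⟩
      rw [hfin.mem_toFinset] at hQ
      obtain ⟨Q', hQ', hQ'P⟩ := Ideal.exists_minimalPrimes_le haP
      have : Q' = Q := le_antisymm (hQ'P.trans hPQ) (hQ.2 ⟨hQ'.1.1, hQ'.1.2⟩ (hQ'P.trans hPQ))
      exact hPS (le_antisymm (this ▸ hQ'P) hPQ ▸ hQ)
    obtain ⟨x, hxP, hx⟩ := Set.not_subset.1 hcov
    obtain ⟨Q, hQ, hQP⟩ := Ideal.exists_minimalPrimes_le ((Ideal.span_singleton_le_iff_mem _).2 hxP)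
    haveI := hQ.1.1
    have hQ1 : Q.height ≤ 1 := Ideal.height_le_one_of_isPrincipal_of_mem_minimalPrimes _ Q hQ
    have hxQ : x ∈ Q := hQ.1.2 (Ideal.mem_span_singleton_self x)
    have hQ0 : Q ≠ ⊥ := by
      rintro rfl
      obtain ⟨R, hR, hRP⟩ := Ideal.exists_minimalPrimes_le haP
      refine hx (Set.mem_biUnion (Finset.mem_coe.2 (hfin.mem_toFinset.2 hR)) ?_)
      rw [(Ideal.mem_bot).1 hxQ]
      exact R.zero_mem
    obtain ⟨R, hR, hRQ⟩ := Ideal.exists_minimalPrimes_le
      ((Ideal.span_singleton_le_iff_mem _).2 (h Q hQ.1.1 hQ0 haJ))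
    haveI := hR.1.1
    rcases lt_or_eq_of_le hRQ with hlt | rfl
    · have h1 : R.height < Q.height := Ideal.height_strict_mono_of_isPrime hlt
      have h2 : R ≠ ⊥ := by
        rintro rfl
        exact ha (Ideal.mem_bot.1 (hR.1.2 (Ideal.mem_span_singleton_self a)))
      have h3 : R.height ≠ 0 := fun h0 => h2 (by
        have := Ideal.height_eq_zero_iff.1 h0
        rwa [IsDomain.minimalPrimes_eq_singleton_bot, Set.mem_singleton_iff] at this)
      have h4 : (1 : ℕ∞) ≤ R.height := ENat.one_le_iff_ne_zero.2 h3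
      exact absurd (h4.trans_lt (h1.trans_le hQ1)) (lt_irrefl _)
    · exact hx (Set.mem_biUnion (Finset.mem_coe.2 (hfin.mem_toFinset.2 hR)) hxQ)
  refine Ring.KrullDimLE.mk₁' fun P hP0 hP => ?_
  obtain ⟨m, hm, hPm⟩ := Ideal.exists_le_maximal P hP.ne_top
  have hm0 : m ≠ ⊥ := fun h0 => hP0 (le_bot_iff.1 (h0 ▸ hPm))
  have hPS := key P hP hP0
  have hmS := key m hm.isPrime hm0
  rwa [le_antisymm hPm (hmS.2 ⟨hP, hPS.1.2⟩ hPm)]

theorem maximal_eq_radical [IsAdicComplete J D] [Ring.KrullDimLE 1 D] (hJ : J ≠ ⊥)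
    {m : Ideal D} (hm : m.IsMaximal) : m = J.radical := by
  have hjac : ∀ n : Ideal D, n.IsMaximal → J ≤ n := fun n hn =>
    (IsAdicComplete.le_jacobson_bot J).trans (sInf_le ⟨bot_le, hn⟩)
  have huniq : ∀ n : Ideal D, n.IsMaximal → n = m := by
    intro n hn
    by_contra hne
    haveI : Ring.KrullDimLE 0 (D ⧸ J) := by
      refine Ring.KrullDimLE.mk₀ fun P hP => ?_
      have hPc : (P.comap (Ideal.Quotient.mk J)).IsMaximal := by
        refine Ideal.IsPrime.isMaximal_of_ne_bot inferInstance fun h0 => hJ (le_bot_iff.1 ?_)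
        rw [← h0]
        exact le_comap_mk J P
      rw [← Ideal.map_comap_of_surjective _ Ideal.Quotient.mk_surjective P]
      refine Ideal.IsMaximal.map_of_surjective_of_ker_le Ideal.Quotient.mk_surjective ?_
      rw [Ideal.mk_ker]
      exact le_comap_mk J P
    have hmap : ∀ k : Ideal D, k.IsMaximal → (k.map (Ideal.Quotient.mk J)).IsMaximal := fun k hk =>
      Ideal.IsMaximal.map_of_surjective_of_ker_le Ideal.Quotient.mk_surjective
        (by rw [Ideal.mk_ker]; exact hjac k hk)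
    obtain ⟨e, he, he0, he1⟩ := exists_pair_of_two_maximals (hmap n hn) (hmap m hm) (fun h => by
      have h' := congr_arg (Ideal.comap (Ideal.Quotient.mk J)) h
      rw [Ideal.comap_map_mk (hjac n hn), Ideal.comap_map_mk (hjac m hm)] at h'
      exact hne h')
    obtain ⟨e₀, rfl⟩ := Ideal.Quotient.mk_surjective e
    obtain ⟨a, ha, hae⟩ := HenselianRing.is_henselian (I := J)
      (Polynomial.X ^ 2 - Polynomial.X) (Polynomial.monic_X_pow_sub (by simp)) e₀
      (by
        rw [← Ideal.Quotient.eq_zero_iff_mem]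
        simp [pow_two, he.eq])
      (by
        refine IsUnit.of_mul_eq_one
          (Ideal.Quotient.mk J (2 * e₀ - 1)) ?_
        simp only [Polynomial.derivative_sub, Polynomial.derivative_X_pow, Polynomial.derivative_X,
          Polynomial.eval_sub, Polynomial.eval_mul, Polynomial.eval_ofNat,
          Polynomial.eval_X, Polynomial.eval_one, Nat.cast_ofNat, pow_one, Nat.add_one_sub_one,
          map_sub, map_mul, map_one, map_ofNat]
        linear_combination 4 * he.eq)
    have ha' : a * (a - 1) = 0 := by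
      have := ha.eq_zero
      simp only [Polynomial.eval_sub, Polynomial.eval_pow, Polynomial.eval_X] at this
      linear_combination this
    have hq := Ideal.Quotient.eq.2 hae
    rcases mul_eq_zero.1 ha' with h0 | h1
    · exact he0 (by rw [← hq, h0, map_zero])
    · exact he1 (by rw [← hq, sub_eq_zero.1 h1, map_one])
  rw [Ideal.radical_eq_sInf]
  refine le_antisymm (le_sInf fun P hP => ?_) (sInf_le ⟨hjac m hm, hm.isPrime⟩)
  rw [huniq P (hP.2.isMaximal_of_ne_bot fun h0 => hJ (le_bot_iff.1 (h0 ▸ hP.1)))]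

theorem ringKrullDim_eq_one [IsAdicComplete J D] [Ring.KrullDimLE 1 D] (hJ : J ≠ ⊥) :
    ringKrullDim D = 1 := by
  refine le_antisymm ((Ring.krullDimLE_iff).1 ‹_›) ?_
  by_contra hlt
  haveI : Ring.KrullDimLE 0 D := by
    rw [Ring.krullDimLE_iff]
    rw [not_le] at hlt
    obtain ⟨k, hk⟩ : ∃ k : ℕ∞, ringKrullDim D = k := by
      have := ringKrullDim_nonneg_of_nontrivial (R := D)
      generalize ringKrullDim D = d at this ⊢
      induction d with
      | bot => simp at this
      | coe k => exact ⟨k, rfl⟩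
    rw [hk] at hlt ⊢
    norm_cast at hlt ⊢
    exact (ENat.lt_one_iff_eq_zero.1 hlt).le
  haveI hbm : (⊥ : Ideal D).IsMaximal := inferInstance
  exact hJ (le_bot_iff.1 ((IsAdicComplete.le_jacobson_bot J).trans (sInf_le ⟨le_rfl, hbm⟩)))

end Domain

section Quotient

variable {A : Type u} [CommRing A] [IsNoetherianRing A] (I : Ideal A) [IsAdicComplete I A]
  (q : PrimeSpectrum A)

theorem map_ne_bot_iff : I.map (Ideal.Quotient.mk q.asIdeal) ≠ ⊥ ↔ ¬ I ≤ q.asIdeal := by
  rw [ne_eq, Ideal.map_eq_bot_iff_le_ker, Ideal.mk_ker]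

theorem krullDimLE_one {q : PrimeSpectrum A} (h : IsRigClosed I q) :
    Ring.KrullDimLE 1 (A ⧸ q.asIdeal) := by
  refine krullDimLE_one_of_forall_le (J := I.map (Ideal.Quotient.mk q.asIdeal))
    ((map_ne_bot_iff I q).2 h.1) fun P hP hP0 => ?_
  rw [Ideal.map_le_iff_le_comap]
  by_contra hI
  have := h.2 ⟨P.comap (Ideal.Quotient.mk q.asIdeal), hP.comap _⟩ (le_comap_mk _ P) hI
  refine hP0 ?_
  have h' : P.comap (Ideal.Quotient.mk q.asIdeal) = q.asIdeal := congr_arg PrimeSpectrum.asIdeal this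
  rw [← Ideal.map_comap_of_surjective _ Ideal.Quotient.mk_surjective P, h', Ideal.map_quotient_self]

theorem ringKrullDim_quotient_eq_one {q : PrimeSpectrum A} (h : IsRigClosed I q) :
    ringKrullDim (A ⧸ q.asIdeal) = 1 := by
  haveI := Complete.isAdicComplete_quotient (I := I) q.asIdeal
  haveI := krullDimLE_one I h
  exact ringKrullDim_eq_one ((map_ne_bot_iff I q).2 h.1)

theorem of_ringKrullDim_eq_one (h : ringKrullDim (A ⧸ q.asIdeal) = 1) (hI : ¬ I ≤ q.asIdeal) :
    IsRigClosed I q := by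
  haveI := Complete.isAdicComplete_quotient (I := I) q.asIdeal
  haveI : Ring.KrullDimLE 1 (A ⧸ q.asIdeal) := Ring.krullDimLE_iff.2 h.le
  refine ⟨hI, fun y hqy hIy => ?_⟩
  by_contra hne
  have hprime : (y.asIdeal.map (Ideal.Quotient.mk q.asIdeal)).IsPrime :=
    Ideal.map_isPrime_of_surjective Ideal.Quotient.mk_surjective (by rw [Ideal.mk_ker]; exact hqy)
  have hmax := hprime.isMaximal_of_ne_bot fun h0 => by
    rw [Ideal.map_eq_bot_iff_le_ker, Ideal.mk_ker] at h0
    exact hne (PrimeSpectrum.ext (le_antisymm h0 hqy))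
  refine hIy ?_
  rw [← Ideal.comap_map_mk (J := y.asIdeal) hqy, ← Ideal.map_le_iff_le_comap]
  exact (IsAdicComplete.le_jacobson_bot _).trans (sInf_le ⟨bot_le, hmax⟩)

theorem isMaximal_of_lt {q : PrimeSpectrum A} (h : IsRigClosed I q) {P : Ideal A} (hP : P.IsPrime)
    (hqP : q.asIdeal ≤ P) (hIP : I ≤ P) : P.IsMaximal := by
  haveI := krullDimLE_one I h
  have hprime : (P.map (Ideal.Quotient.mk q.asIdeal)).IsPrime :=
    Ideal.map_isPrime_of_surjective Ideal.Quotient.mk_surjective (by rw [Ideal.mk_ker]; exact hqP)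
  have hmax := hprime.isMaximal_of_ne_bot fun h0 => by
    rw [Ideal.map_eq_bot_iff_le_ker, Ideal.mk_ker] at h0
    exact h.1 (hIP.trans h0)
  rw [← Ideal.comap_map_mk hqP]
  exact Ideal.comap_isMaximal_of_surjective _ Ideal.Quotient.mk_surjective

end Quotient

section Finite

variable {A : Type u} [CommRing A] [IsNoetherianRing A] {I : Ideal A} [IsAdicComplete I A]
  {B : Type v} [CommRing B] [Algebra A B] [IsNoetherianRing B]
  [IsAdicComplete (I.map (algebraMap A B)) B] {q : PrimeSpectrum B}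

theorem residue_finite (hft : Algebra.FiniteType A (B ⧸ I.map (algebraMap A B)))
    (hq : IsRigClosed (I.map (algebraMap A B)) q) {K : Ideal A}
    (hK : K ≤ (q.asIdeal ⊔ I.map (algebraMap A B)).comap (algebraMap A B))
    [IsJacobsonRing (A ⧸ K)] {m : Ideal B} (hm : m.IsMaximal) (hqm : q.asIdeal ≤ m) :
    Module.Finite A (B ⧸ m) := by
  have hIm : I.map (algebraMap A B) ≤ m :=
    (IsAdicComplete.le_jacobson_bot _).trans (sInf_le ⟨bot_le, hm⟩)
  have hKm : K ≤ m.comap (algebraMap A B) := hK.trans (Ideal.comap_mono (sup_le hqm hIm))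
  letI : Field (B ⧸ m) := Ideal.Quotient.field m
  letI : Algebra (A ⧸ K) (B ⧸ m) := (Ideal.quotientMap m (algebraMap A B) hKm).toAlgebra
  haveI : IsScalarTower A (A ⧸ K) (B ⧸ m) := IsScalarTower.of_algebraMap_eq fun a => rfl
  haveI : Algebra.FiniteType A (B ⧸ m) :=
    Algebra.FiniteType.of_surjective (Ideal.Quotient.factorₐ A hIm) (Ideal.Quotient.factor_surjective hIm)
  haveI : Algebra.FiniteType (A ⧸ K) (B ⧸ m) := Algebra.FiniteType.of_restrictScalars_finiteType A _ _
  haveI : Module.Finite (A ⧸ K) (B ⧸ m) := finite_of_finite_type_of_isJacobsonRing _ _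
  exact Module.Finite.trans (A ⧸ K) (B ⧸ m)

theorem finite_quotient (hq : IsRigClosed (I.map (algebraMap A B)) q)
    (hres : ∀ m : Ideal B, m.IsMaximal → q.asIdeal ≤ m → Module.Finite A (B ⧸ m)) :
    Module.Finite A (B ⧸ q.asIdeal) := by
  haveI : IsAdicComplete I (B ⧸ q.asIdeal) := by
    rw [← IsAdicComplete.map_algebraMap_iff (S := B) I]
    exact Complete.isAdicComplete_of_finite
  refine Complete.finite_of_finite_quotient (I := I) ?_
  set K := q.asIdeal ⊔ I.map (algebraMap A B) with hKdef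
  haveI : Ring.KrullDimLE 0 (B ⧸ K) := by
    refine Ring.KrullDimLE.mk₀ fun P hP => ?_
    have hle := le_comap_mk K P
    have hmax := isMaximal_of_lt (I := I.map (algebraMap A B)) hq (hP.comap (Ideal.Quotient.mk K))
      (le_sup_left.trans hle) (le_sup_right.trans hle)
    rw [← Ideal.map_comap_of_surjective _ Ideal.Quotient.mk_surjective P]
    refine Ideal.IsMaximal.map_of_surjective_of_ker_le Ideal.Quotient.mk_surjective ?_
    rw [Ideal.mk_ker]
    exact hle
  haveI : IsArtinianRing (B ⧸ K) :=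
    isArtinianRing_iff_isNoetherianRing_krullDimLE_zero.2 ⟨inferInstance, inferInstance⟩
  have hres' : ∀ n : Ideal (B ⧸ K), n.IsMaximal → Module.Finite A ((B ⧸ K) ⧸ n) := fun n hn => by
    haveI := hn
    have hc : (n.comap (Ideal.Quotient.mk K)).IsMaximal :=
      Ideal.comap_isMaximal_of_surjective _ Ideal.Quotient.mk_surjective
    haveI := hres _ hc (le_sup_left.trans (le_comap_mk K n))
    refine Module.Finite.of_surjective
      ((Ideal.Quotient.liftₐ (n.comap (Ideal.Quotient.mk K))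
        ((Ideal.Quotient.mkₐ A n).comp (Ideal.Quotient.mkₐ A K))
        (fun b hb => Ideal.Quotient.eq_zero_iff_mem.2 hb)).toLinearMap) fun y => ?_
    obtain ⟨y, rfl⟩ := Ideal.Quotient.mk_surjective y
    obtain ⟨b, rfl⟩ := Ideal.Quotient.mk_surjective y
    exact ⟨Ideal.Quotient.mk _ b, rfl⟩
  haveI hfin : Module.Finite A (B ⧸ K) := by
    haveI : Module.Finite A ((B ⧸ K) ⧸ Ring.jacobson (B ⧸ K)) := by
      haveI : ∀ P : MaximalSpectrum (B ⧸ K), Module.Finite A ((B ⧸ K) ⧸ P.asIdeal) :=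
        fun P => hres' P.asIdeal P.isMaximal
      haveI : IsSemisimpleRing ((B ⧸ K) ⧸ Ring.jacobson (B ⧸ K)) := inferInstance
      haveI : ∀ P : MaximalSpectrum ((B ⧸ K) ⧸ Ring.jacobson (B ⧸ K)),
          Module.Finite A (((B ⧸ K) ⧸ Ring.jacobson (B ⧸ K)) ⧸ P.asIdeal) := fun P => by
        haveI := P.isMaximal
        have hc : (P.asIdeal.comap (Ideal.Quotient.mk (Ring.jacobson (B ⧸ K)))).IsMaximal :=
          Ideal.comap_isMaximal_of_surjective _ Ideal.Quotient.mk_surjective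
        haveI := hres' _ hc
        refine Module.Finite.of_surjective
          ((Ideal.Quotient.liftₐ (P.asIdeal.comap (Ideal.Quotient.mk (Ring.jacobson (B ⧸ K))))
            ((Ideal.Quotient.mkₐ A P.asIdeal).comp (Ideal.Quotient.mkₐ A _))
            (fun b hb => Ideal.Quotient.eq_zero_iff_mem.2 hb)).toLinearMap) fun y => ?_
        obtain ⟨y, rfl⟩ := Ideal.Quotient.mk_surjective y
        obtain ⟨b, rfl⟩ := Ideal.Quotient.mk_surjective y
        exact ⟨Ideal.Quotient.mk _ b, rfl⟩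
      exact .equiv ((IsArtinianRing.equivPi _).restrictScalars A).toLinearEquiv.symm
    exact IsSemiprimaryRing.finite_of_isArtinian A (B ⧸ K) (B ⧸ K)
  have hsurj : ∃ f : (B ⧸ K) →ₗ[A] (B ⧸ q.asIdeal) ⧸ (I • ⊤ : Submodule A (B ⧸ q.asIdeal)),
      Function.Surjective f := by
    let h : B →ₗ[A] (B ⧸ q.asIdeal) ⧸ (I • ⊤ : Submodule A (B ⧸ q.asIdeal)) :=
      (Submodule.mkQ _) ∘ₗ (Ideal.Quotient.mkₐ A q.asIdeal).toLinearMap
    have hle : (K.restrictScalars A) ≤ LinearMap.ker h := by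
      intro b hb
      obtain ⟨c, hc, d, hd, rfl⟩ := Submodule.mem_sup.1 hb
      rw [LinearMap.mem_ker, map_add]
      have hd' : h d = 0 := by
        have : d ∈ (I • ⊤ : Submodule A B) := by
          rw [Ideal.smul_top_eq_map]; exact hd
        have h2 := Submodule.mem_map_of_mem (f := (Ideal.Quotient.mkₐ A q.asIdeal).toLinearMap) this
        rw [Submodule.map_smul''] at h2
        exact (Submodule.Quotient.mk_eq_zero _).2 (Submodule.smul_mono le_rfl le_top h2)
      have hc' : h c = 0 := by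
        change Submodule.mkQ _ (Ideal.Quotient.mk q.asIdeal c) = 0
        rw [Ideal.Quotient.eq_zero_iff_mem.2 hc, map_zero]
      rw [hc', hd', add_zero]
    refine ⟨(K.restrictScalars A).liftQ h hle, fun y => ?_⟩
    obtain ⟨y, rfl⟩ := Submodule.mkQ_surjective _ y
    obtain ⟨b, rfl⟩ := Ideal.Quotient.mk_surjective y
    exact ⟨Submodule.Quotient.mk b, rfl⟩
  obtain ⟨f, hf⟩ := hsurj
  exact Module.Finite.of_surjective f hf

theorem comap_rigClosed (hq : IsRigClosed (I.map (algebraMap A B)) q)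
    (hfin : Module.Finite A (B ⧸ q.asIdeal)) :
    IsRigClosed I (PrimeSpectrum.comap (algebraMap A B) q) := by
  refine ⟨fun h => hq.1 (Ideal.map_le_iff_le_comap.2 h), fun y hy hIy => ?_⟩
  haveI := hfin
  have hker : RingHom.ker (algebraMap A (B ⧸ q.asIdeal)) ≤ y.asIdeal := fun a ha => hy (by
    rw [RingHom.mem_ker, IsScalarTower.algebraMap_apply A B, Ideal.Quotient.algebraMap_eq,
      Ideal.Quotient.eq_zero_iff_mem] at ha
    exact ha)
  obtain ⟨Q, hQ, hQc⟩ := Ideal.exists_ideal_over_prime_of_isIntegral_of_isDomain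
    (S := B ⧸ q.asIdeal) y.asIdeal hker
  have hcc : (Q.comap (Ideal.Quotient.mk q.asIdeal)).comap (algebraMap A B) = y.asIdeal := by
    rw [Ideal.comap_comap, ← hQc]
    rfl
  have := hq.2 ⟨Q.comap (Ideal.Quotient.mk q.asIdeal), hQ.comap _⟩ (le_comap_mk _ Q)
    (fun h => hIy (by rw [← hcc]; exact Ideal.map_le_iff_le_comap.1 h))
  refine PrimeSpectrum.ext ?_
  rw [PrimeSpectrum.comap_asIdeal, ← hcc]
  exact congr_arg (Ideal.comap (algebraMap A B)) (congr_arg PrimeSpectrum.asIdeal this)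

end Finite

end Groth.Agent.Lib.Adic.RigClosed
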