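import Groth.Agent.Lib.Adic.Complete
import Groth.Agent.Lib.Adic.RigClosed
import Mathlib.RingTheory.Unramified.LocalRing
import Mathlib.RingTheory.Unramified.LocalStructure
import Mathlib.RingTheory.QuasiFinite.Basic
import Mathlib.RingTheory.Kaehler.Basic

/-! A complete algebra, unramified modulo the ideal of definition, over an Artinian reduction is
finite and unramified. -/

set_option autoImplicit false
set_option linter.style.haveILetI false

universe u

open scoped TensorProduct

namespace Groth.Agent.Lib.Adic.EtaleRig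

variable {A E : Type u} [CommRing A] [CommRing E] [Algebra A E] (I : Ideal A)

theorem finite_of_unramified_mod [IsAdicComplete I A] [IsNoetherianRing A]
    [IsAdicComplete (I.map (algebraMap A E)) E] (P : Ideal A) (hP : P.map (algebraMap A E) = ⊥)
    [IsArtinianRing (A ⧸ I ⊔ P)] [Algebra.FiniteType A (E ⧸ I.map (algebraMap A E))]
    [Algebra.FormallyUnramified A (E ⧸ I.map (algebraMap A E))] : Module.Finite A E := by
  let F := E ⧸ I.map (algebraMap A E)
  have hle : I ⊔ P ≤ (I.map (algebraMap A E)).comap (algebraMap A E) :=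
    sup_le (Ideal.map_le_iff_le_comap.1 le_rfl)
      (Ideal.map_le_iff_le_comap.1 (hP.trans_le bot_le))
  letI : Algebra (A ⧸ I ⊔ P) F := (Ideal.quotientMap _ (algebraMap A E) hle).toAlgebra
  haveI : IsScalarTower A (A ⧸ I ⊔ P) F :=
    IsScalarTower.of_algebraMap_eq (R := A) (S := A ⧸ I ⊔ P) (A := F) fun _ => rfl
  haveI : Algebra.FormallyUnramified (A ⧸ I ⊔ P) F :=
    Algebra.FormallyUnramified.of_restrictScalars A (A ⧸ I ⊔ P) F
  haveI : Algebra.FiniteType (A ⧸ I ⊔ P) F := Algebra.FiniteType.of_restrictScalars_finiteType A _ _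
  haveI : Module.Finite (A ⧸ I ⊔ P) F := Module.Finite.of_quasiFinite
  haveI : Module.Finite A F := Module.Finite.trans (A ⧸ I ⊔ P) F
  haveI : IsHausdorff I E := (IsHausdorff.map_algebraMap_iff (S := E)).1 inferInstance
  refine Complete.finite_of_finite_quotient (I := I) ?_
  exact Module.Finite.equiv (((Submodule.quotEquivOfEq _ _ (Ideal.smul_top_eq_map I)).trans
    (Submodule.Quotient.restrictScalarsEquiv A (I.map (algebraMap A E)))).symm :
      (E ⧸ I.map (algebraMap A E)) ≃ₗ[A] E ⧸ (I • ⊤ : Submodule A E))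

theorem formallyUnramified_of_mod [Module.Finite A E] (hI : I.map (algebraMap A E) ≤ Ideal.jacobson ⊥)
    [Algebra.FormallyUnramified A (E ⧸ I.map (algebraMap A E))] : Algebra.FormallyUnramified A E := by
  let K := I.map (algebraMap A E)
  let F := E ⧸ K
  haveI : Algebra.EssFiniteType A E := inferInstance
  haveI : Module.Finite E Ω[E⁄A] := inferInstance
  have hzero : ∀ x : E, x ∈ K →
      (1 : F) ⊗ₜ[E] KaehlerDifferential.D A E x = 0 := by
    intro x hx
    induction hx using Submodule.span_induction with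
    | mem y hy =>
      obtain ⟨a, -, rfl⟩ := hy
      rw [Derivation.map_algebraMap, TensorProduct.tmul_zero]
    | zero => rw [map_zero, TensorProduct.tmul_zero]
    | add y z _ _ hy hz => rw [map_add, TensorProduct.tmul_add, hy, hz, add_zero]
    | smul b y hyK hy =>
      rw [smul_eq_mul, Derivation.leibniz, TensorProduct.tmul_add, TensorProduct.tmul_smul, hy,
        smul_zero, zero_add, TensorProduct.tmul_smul, TensorProduct.smul_tmul',
        Algebra.smul_def, mul_one, Ideal.Quotient.algebraMap_eq, (Ideal.Quotient.eq_zero_iff_mem.2 hyK : Ideal.Quotient.mk K y = 0),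
        TensorProduct.zero_tmul]
  haveI : Subsingleton (F ⊗[E] Ω[E⁄A]) := by
    refine ⟨fun a b => ?_⟩
    suffices ∀ z : F ⊗[E] Ω[E⁄A], z = 0 from (this a).trans (this b).symm
    intro z
    obtain ⟨w, rfl⟩ := (KaehlerDifferential.exact_kerCotangentToTensor_mapBaseChange A E F
      Ideal.Quotient.mk_surjective z).1 (Subsingleton.elim _ _)
    obtain ⟨⟨x, hx⟩, rfl⟩ := Ideal.toCotangent_surjective _ w
    rw [KaehlerDifferential.kerCotangentToTensor_toCotangent]
    exact hzero x (by rwa [Ideal.Quotient.algebraMap_eq, Ideal.mk_ker] at hx)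
  have htop : (⊤ : Submodule E Ω[E⁄A]) = ⊥ := by
    refine Submodule.eq_bot_of_le_smul_of_le_jacobson_bot K ⊤ Module.Finite.fg_top (fun x _ => ?_) hI
    rw [← Submodule.Quotient.mk_eq_zero]
    have hs : Subsingleton (Ω[E⁄A] ⧸ (K • ⊤ : Submodule E Ω[E⁄A])) :=
      (TensorProduct.quotTensorEquivQuotSMul Ω[E⁄A] K).symm.toEquiv.subsingleton
    exact Subsingleton.elim _ _
  exact ⟨⟨fun a b => by
    have ha : a ∈ (⊥ : Submodule E Ω[E⁄A]) := htop ▸ Submodule.mem_top
    have hb : b ∈ (⊥ : Submodule E Ω[E⁄A]) := htop ▸ Submodule.mem_top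
    rw [Submodule.mem_bot] at ha hb
    rw [ha, hb]⟩⟩

end Groth.Agent.Lib.Adic.EtaleRig
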