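import Groth.Agent.Lib.Adic.Complete
import Mathlib.RingTheory.AdicCompletion.Completeness
import Mathlib.RingTheory.AdicCompletion.RingHom

/-! Lifting algebra maps to adic completions and their uniqueness. -/

set_option autoImplicit false
set_option linter.unusedSectionVars false

universe u v w

namespace Groth.Agent.Lib.Adic.Lift

variable {R : Type u} [CommRing R] {I : Ideal R}
variable {C : Type v} [CommRing C] [Algebra R C] {B : Type w} [CommRing B] [Algebra R B]

theorem map_le_comap (g : C →ₐ[R] B) (n : ℕ) :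
    (I.map (algebraMap R C)) ^ n ≤ Ideal.comap g ((I.map (algebraMap R B)) ^ n) := by
  rw [← Ideal.map_le_iff_le_comap, Ideal.map_pow]
  refine Ideal.pow_right_mono ?_ n
  rw [Ideal.map_le_iff_le_comap, Ideal.map_le_iff_le_comap]
  intro a ha
  simpa using Ideal.mem_map_of_mem (algebraMap R B) ha

variable [IsAdicComplete (I.map (algebraMap R B)) B]

/-- The extension of an algebra map to the completion. -/
theorem exists_lift (g : C →ₐ[R] B) :
    ∃ φ : AdicCompletion (I.map (algebraMap R C)) C →ₐ[R] B,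
      ∀ c, φ (AdicCompletion.of _ _ c) = g c := by
  let f : ∀ n, AdicCompletion (I.map (algebraMap R C)) C →ₐ[R] B ⧸ (I.map (algebraMap R B)) ^ n :=
    fun n => (Ideal.quotientMapₐ _ g (map_le_comap g n)).comp
      ((AdicCompletion.evalₐ (I.map (algebraMap R C)) n).restrictScalars R)
  have hf : ∀ {m n : ℕ} (hle : m ≤ n),
      (Ideal.Quotient.factorₐ R (Ideal.pow_le_pow_right hle)).comp (f n) = f m := by
    intro m n hle
    refine AlgHom.ext fun x => ?_
    induction x using AdicCompletion.induction_on with | _ a => ?_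
    change Ideal.Quotient.factor (Ideal.pow_le_pow_right hle)
      (Ideal.quotientMap _ (g : C →+* B) (map_le_comap g n)
        (AdicCompletion.evalₐ _ n (AdicCompletion.mk _ _ a))) =
      Ideal.quotientMap _ (g : C →+* B) (map_le_comap g m)
        (AdicCompletion.evalₐ _ m (AdicCompletion.mk _ _ a))
    rw [AdicCompletion.evalₐ_mk, AdicCompletion.evalₐ_mk, Ideal.quotientMap_mk, Ideal.quotientMap_mk,
      Ideal.Quotient.factor_mk, Ideal.Quotient.eq, ← map_sub]
    exact map_le_comap g m (Ideal.Quotient.eq.1 (AdicCompletion.Ideal.mk_eq_mk _ hle a))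
  refine ⟨IsAdicComplete.liftAlgHom _ f hf, fun c => ?_⟩
  refine (IsHausdorff.eq_iff_smodEq (I := I.map (algebraMap R B))).2 fun n => ?_
  have h1 := IsAdicComplete.mk_liftAlgHom _ f hf n (AdicCompletion.of _ _ c)
  rw [SModEq.sub_mem, smul_eq_mul, Ideal.mul_top, ← Ideal.Quotient.eq, h1]
  change Ideal.quotientMap _ (g : C →+* B) (map_le_comap g n)
    (AdicCompletion.evalₐ _ n (AdicCompletion.of _ _ c)) = _
  rw [AdicCompletion.evalₐ_of, Ideal.quotientMap_mk]
  rfl

theorem exists_of_sub_mem (hI : I.FG) (x : AdicCompletion (I.map (algebraMap R C)) C) (n : ℕ) :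
    ∃ c, x - AdicCompletion.of _ _ c ∈
      (I.map (algebraMap R (AdicCompletion (I.map (algebraMap R C)) C))) ^ n := by
  obtain ⟨c, hc⟩ := Submodule.mkQ_surjective _ (AdicCompletion.eval (I.map (algebraMap R C)) C n x)
  refine ⟨c, ?_⟩
  have h : x - AdicCompletion.of _ _ c ∈
      LinearMap.ker (AdicCompletion.eval (I.map (algebraMap R C)) C n) := by
    rw [LinearMap.mem_ker, map_sub, AdicCompletion.eval_of, hc, sub_self]
  rw [← AdicCompletion.pow_smul_top_eq_ker_eval (Ideal.FG.map hI (algebraMap R C)),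
    Ideal.smul_top_eq_map, Submodule.restrictScalars_mem, ← Ideal.map_pow, Ideal.map_map,
    ← IsScalarTower.algebraMap_eq, Ideal.map_pow] at h
  exact h

theorem hom_ext (hI : I.FG) (φ ψ : AdicCompletion (I.map (algebraMap R C)) C →ₐ[R] B)
    (h : ∀ c, φ (AdicCompletion.of _ _ c) = ψ (AdicCompletion.of _ _ c)) : φ = ψ := by
  refine AlgHom.ext fun x => ?_
  refine (IsHausdorff.eq_iff_smodEq (I := I.map (algebraMap R B))).2 fun n => ?_
  obtain ⟨c, hc⟩ := exists_of_sub_mem hI x n
  have key : ∀ χ : AdicCompletion (I.map (algebraMap R C)) C →ₐ[R] B,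
      χ x - χ (AdicCompletion.of _ _ c) ∈ (I.map (algebraMap R B)) ^ n := fun χ => by
    rw [← map_sub]
    exact map_le_comap χ n hc
  rw [SModEq.sub_mem, smul_eq_mul, Ideal.mul_top,
    show φ x - ψ x = (φ x - φ (AdicCompletion.of _ _ c)) - (ψ x - ψ (AdicCompletion.of _ _ c)) by
      rw [h c]; ring]
  exact Ideal.sub_mem _ (key φ) (key ψ)

theorem of_eq_algebraMap (c : C) :
    AdicCompletion.of (I.map (algebraMap R C)) C c =
      algebraMap C (AdicCompletion (I.map (algebraMap R C)) C) c := rfl

end Groth.Agent.Lib.Adic.Lift
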