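import Groth.Agent.Lib.Adic.RigFunct
import Mathlib.RingTheory.TensorProduct.Quotient
import Mathlib.RingTheory.Flat.Stability

/-! Points of completed tensor products with finite quotient over the base. -/

set_option autoImplicit false
set_option linter.style.haveILetI false
set_option linter.unusedSectionVars false

universe u

open scoped TensorProduct

namespace Groth.Agent.Lib.Adic.RigBaseChange

/-- If `R/p` is finite over `k` then so are all `R/p^n`. -/
theorem finite_quotient_pow {k R : Type u} [CommRing k] [CommRing R] [Algebra k R] [IsNoetherianRing R]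
    (p : Ideal R) [Module.Finite k (R ⧸ p)] (n : ℕ) : Module.Finite k (R ⧸ p ^ n) := by
  classical
  obtain ⟨s, hs⟩ := (Module.Finite.fg_top (R := k) (M := R ⧸ p))
  choose l hl using fun x : R ⧸ p => Ideal.Quotient.mk_surjective x
  let V₁ : Submodule k R := Submodule.span k ((s.image l : Finset R) : Set R)
  have hres : ∀ r : R, ∃ v ∈ V₁, r - v ∈ p := fun r => by
    have hmap : V₁.map (Ideal.Quotient.mkₐ k p).toLinearMap = ⊤ := by
      rw [← hs, Submodule.map_span, Finset.coe_image, ← Set.image_comp]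
      refine congrArg (Submodule.span k) ?_
      exact (Set.image_congr fun x _ => hl x).trans (Set.image_id _)
    have hr : Ideal.Quotient.mk p r ∈ V₁.map (Ideal.Quotient.mkₐ k p).toLinearMap := hmap ▸ Submodule.mem_top
    obtain ⟨v, hv, hvr⟩ := hr
    exact ⟨v, hv, Ideal.Quotient.eq.1 hvr.symm⟩
  suffices ∃ V : Submodule k R, V.FG ∧ ∀ r, ∃ v ∈ V, r - v ∈ p ^ n by
    obtain ⟨V, hV, h⟩ := this
    haveI : Module.Finite k V := Module.Finite.of_fg hV
    refine Module.Finite.of_surjective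
      ((Ideal.Quotient.mkₐ k (p ^ n)).toLinearMap ∘ₗ V.subtype) fun q => ?_
    obtain ⟨r, rfl⟩ := Ideal.Quotient.mk_surjective q
    obtain ⟨v, hv, hrv⟩ := h r
    exact ⟨⟨v, hv⟩, (Ideal.Quotient.eq.2 hrv).symm⟩
  induction n with
  | zero => exact ⟨⊥, Submodule.fg_bot, fun r => ⟨0, zero_mem _, by simp⟩⟩
  | succ n ih =>
    obtain ⟨V, hV, h⟩ := ih
    obtain ⟨d, g, hg⟩ := Submodule.fg_iff_exists_fin_generating_family.1 (IsNoetherian.noetherian (p ^ n))
    refine ⟨V ⊔ V₁ * Submodule.span k (Set.range g),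
      hV.sup ((Submodule.fg_span (Finset.finite_toSet _)).mul (Submodule.fg_span (Set.finite_range g))),
      fun r => ?_⟩
    obtain ⟨v, hv, hrv⟩ := h r
    have hrv' : r - v ∈ Submodule.span R (Set.range g) := by rw [hg]; exact hrv
    obtain ⟨c, hc⟩ := (Submodule.mem_span_range_iff_exists_fun R).1 hrv'
    choose w hw hwc using fun i => hres (c i)
    refine ⟨v + ∑ i, w i * g i, add_mem (Submodule.mem_sup_left hv)
      (Submodule.mem_sup_right (sum_mem fun i _ => Submodule.mul_mem_mul (hw i) (Submodule.subset_span ⟨i, rfl⟩))), ?_⟩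
    rw [← sub_sub, ← hc, ← Finset.sum_sub_distrib, pow_succ']
    refine sum_mem fun i _ => ?_
    rw [smul_eq_mul, ← sub_mul]
    exact Ideal.mul_mem_mul (hwc i) (hg ▸ Submodule.subset_span ⟨i, rfl⟩)

/-- Flatness of a quotient of a flat map. -/
theorem flat_quotientMap {T S : Type u} [CommRing T] [CommRing S] [Algebra T S] [Module.Flat T S] (K : Ideal T)
    (K' : Ideal S) (hK : K' = K.map (algebraMap T S)) (h : K ≤ K'.comap (algebraMap T S)) :
    (Ideal.quotientMap K' (algebraMap T S) h).Flat := by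
  subst hK
  haveI : Module.Flat (T ⧸ K) (S ⧸ K.map (algebraMap T S)) :=
    Module.Flat.of_linearEquiv (Algebra.TensorProduct.quotIdealMapEquivQuotTensor S K).toLinearEquiv
  have := RingHom.flat_algebraMap_iff.2 ‹Module.Flat (T ⧸ K) (S ⧸ K.map (algebraMap T S))›
  exact this

/-- If the map `E ⊗ B₁ → Y` is flat and `B₁ → Y` factors through a localisation flat over the base, then
`E → Y` is flat. -/
theorem flat_of_tensor {A₁ B₁ E LB Y : Type u} [CommRing A₁] [CommRing B₁] [CommRing E] [CommRing LB]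
    [CommRing Y] [Algebra A₁ B₁] [Algebra A₁ E] [Algebra A₁ LB] [Algebra A₁ Y] [Algebra B₁ LB]
    [IsScalarTower A₁ B₁ LB] (M : Submonoid B₁) [IsLocalization M LB] [Module.Flat A₁ LB]
    (u : E →ₐ[A₁] Y) (v : B₁ →ₐ[A₁] Y) (v' : LB →ₐ[A₁] Y) (hv : ∀ b, v' (algebraMap B₁ LB b) = v b)
    (h : (Algebra.TensorProduct.lift u v fun _ _ => Commute.all _ _).toRingHom.Flat) : u.toRingHom.Flat := by
  let X := E ⊗[A₁] B₁
  let X' := E ⊗[A₁] LB
  let ι : X →ₐ[A₁] X' := Algebra.TensorProduct.map (AlgHom.id A₁ E) (IsScalarTower.toAlgHom A₁ B₁ LB)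
  let g : X →ₐ[A₁] Y := Algebra.TensorProduct.lift u v fun _ _ => Commute.all _ _
  let g' : X' →ₐ[A₁] Y := Algebra.TensorProduct.lift u v' fun _ _ => Commute.all _ _
  have hgg : g'.comp ι = g := by
    refine Algebra.TensorProduct.ext' fun e b => ?_
    change g' (ι (e ⊗ₜ[A₁] b)) = g (e ⊗ₜ[A₁] b)
    rw [show ι (e ⊗ₜ[A₁] b) = e ⊗ₜ[A₁] algebraMap B₁ LB b from Algebra.TensorProduct.map_tmul _ _ e b]
    exact (Algebra.TensorProduct.lift_tmul u v' _ e _).trans
      ((congrArg (u e * ·) (hv b)).trans (Algebra.TensorProduct.lift_tmul u v _ e b).symm)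
  letI : Algebra X X' := ι.toRingHom.toAlgebra
  letI : Algebra X' Y := g'.toRingHom.toAlgebra
  letI : Algebra X Y := g.toRingHom.toAlgebra
  haveI : IsScalarTower X X' Y := IsScalarTower.of_algebraMap_eq (R := X) (S := X') (A := Y) fun x =>
    (AlgHom.congr_fun hgg x).symm
  haveI : Module.Flat X Y := h
  have hfrac : ∀ x' : X', ∃ b ∈ M, ∃ x : X, algebraMap X X' ((1 : E) ⊗ₜ[A₁] b) * x' = algebraMap X X' x := by
    intro x'
    induction x' using TensorProduct.induction_on with
    | zero => exact ⟨1, M.one_mem, 0, by rw [mul_zero, map_zero]⟩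
    | tmul e l =>
      obtain ⟨b, m, rfl⟩ := IsLocalization.exists_mk'_eq M l
      refine ⟨m, m.2, e ⊗ₜ b, ?_⟩
      change ι ((1 : E) ⊗ₜ[A₁] (m : B₁)) * _ = ι (e ⊗ₜ[A₁] b)
      rw [show ∀ x y, ι (x ⊗ₜ[A₁] y) = x ⊗ₜ[A₁] algebraMap B₁ LB y from
        fun x y => Algebra.TensorProduct.map_tmul _ _ x y,
        show ∀ x y, ι (x ⊗ₜ[A₁] y) = x ⊗ₜ[A₁] algebraMap B₁ LB y from
        fun x y => Algebra.TensorProduct.map_tmul _ _ x y,
        Algebra.TensorProduct.tmul_mul_tmul, one_mul, IsLocalization.mk'_spec']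
    | add a c ha hc =>
      obtain ⟨b, hb, x, hx⟩ := ha
      obtain ⟨b', hb', x', hx'⟩ := hc
      refine ⟨b * b', M.mul_mem hb hb', (1 ⊗ₜ b') * x + (1 ⊗ₜ b) * x', ?_⟩
      rw [map_add (algebraMap X X'), map_mul, map_mul, ← hx, ← hx',
        show ((1 : E) ⊗ₜ[A₁] (b * b')) = ((1 : E) ⊗ₜ b) * ((1 : E) ⊗ₜ b') by simp, map_mul]
      ring
  have hunit : ∀ b ∈ M, IsUnit (algebraMap X X' ((1 : E) ⊗ₜ[A₁] b)) := fun b hb => by
    change IsUnit (ι ((1 : E) ⊗ₜ[A₁] b))
    simp only [ι, Algebra.TensorProduct.map_tmul, map_one]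
    exact (IsLocalization.map_units LB (⟨b, hb⟩ : M)).map
      (Algebra.TensorProduct.includeRight : LB →ₐ[A₁] X')
  haveI : TensorProduct.CompatibleSMul X X' X' Y := ⟨fun c n m => by
    obtain ⟨b, hb, x, hx⟩ := hfrac c
    obtain ⟨w, hw⟩ := hunit b hb
    let s : X := (1 : E) ⊗ₜ[A₁] b
    obtain ⟨n', rfl⟩ : ∃ n', n = s • n' := ⟨(w⁻¹ : X'ˣ).1 * n, by
      rw [Algebra.smul_def, ← hw, ← mul_assoc, Units.mul_inv, one_mul]⟩
    have h1 : c • s • n' = x • n' := by
      rw [smul_eq_mul, Algebra.smul_def, Algebra.smul_def, ← mul_assoc, mul_comm c, hx]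
    have h2 : s • c • m = x • m := by
      rw [← algebraMap_smul X' s, smul_smul, hx, algebraMap_smul]
    rw [h1, TensorProduct.smul_tmul, ← h2, ← TensorProduct.smul_tmul]⟩
  haveI : Module.Flat X' Y := Module.Flat.of_linearEquiv
    ((TensorProduct.lid X' Y).symm.trans (TensorProduct.equivOfCompatibleSMul X X' X' X' Y))
  letI : Algebra E Y := u.toRingHom.toAlgebra
  haveI : IsScalarTower E X' Y := IsScalarTower.of_algebraMap_eq (R := E) (S := X') (A := Y) fun e => by
    change u e = g' (e ⊗ₜ[A₁] (1 : LB))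
    exact ((Algebra.TensorProduct.lift_tmul u v' _ e 1).trans (by rw [map_one, mul_one])).symm
  exact Module.Flat.trans E X' Y

/-- The pushout property: `D` is the completed tensor product of `C` and `B` over `A`. -/
structure IsPush {A B C D : Type u} [CommRing A] [CommRing B] [CommRing C] [CommRing D] (I : Ideal A)
    [Algebra A B] [Algebra A C] [Algebra A D] (γ : C →ₐ[A] D) (β : B →ₐ[A] D) : Prop where
  exists_hom : ∀ (X : Type u) [CommRing X] [Algebra A X] [IsAdicComplete (I.map (algebraMap A X)) X]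
    (u : C →ₐ[A] X) (v : B →ₐ[A] X), ∃ w : D →ₐ[A] X, w.comp γ = u ∧ w.comp β = v
  ext : ∀ (X : Type u) [CommRing X] [Algebra A X] [IsHausdorff (I.map (algebraMap A X)) X]
    (w w' : D →ₐ[A] X), w.comp γ = w'.comp γ → w.comp β = w'.comp β → w = w'

theorem flat_fibre {A₁ B₁ C₂ D₂ : Type u} [CommRing A₁] [IsNoetherianRing A₁] [CommRing B₁]
    [IsNoetherianRing B₁] [CommRing C₂] [IsNoetherianRing C₂] [CommRing D₂] [IsNoetherianRing D₂]
    (I : Ideal A₁) [Algebra A₁ B₁] [Algebra A₁ C₂] [Algebra A₁ D₂]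
    [IsAdicComplete (I.map (algebraMap A₁ B₁)) B₁] [IsAdicComplete (I.map (algebraMap A₁ D₂)) D₂]
    (γ : C₂ →ₐ[A₁] D₂) (β : B₁ →ₐ[A₁] D₂) (hpush : IsPush I γ β) (q : Ideal D₂) [q.IsPrime]
    [Module.Finite A₁ (C₂ ⧸ q.comap γ.toRingHom)]
    (hAB : Module.Flat A₁ (Localization.AtPrime (q.comap β.toRingHom))) :
    ((algebraMap D₂ (Localization.AtPrime q)).comp γ.toRingHom).Flat := by
  let S := Localization.AtPrime q
  let p := q.comap γ.toRingHom
  haveI : IsNoetherianRing S := IsLocalization.isNoetherianRing q.primeCompl _ inferInstance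
  letI : Algebra C₂ D₂ := γ.toRingHom.toAlgebra
  haveI : IsScalarTower C₂ D₂ S := inferInstance
  suffices Module.Flat C₂ S from by
    have := RingHom.flat_algebraMap_iff.2 this
    rw [IsScalarTower.algebraMap_eq C₂ D₂ S] at this
    exact this
  refine LocalFlat.Criterion.flat_of_flat_quotient_pow S p (LocalFlat.Criterion.map_le_jacobson_bot ?_) fun n => ?_
  · refine ne_top_of_le_ne_top (IsLocalRing.maximalIdeal.isMaximal S).ne_top (Ideal.map_le_iff_le_comap.2 ?_)
    intro c hc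
    rw [Ideal.mem_comap, IsScalarTower.algebraMap_apply C₂ D₂ S]
    exact (IsLocalization.AtPrime.to_map_mem_maximal_iff S q _).2 hc
  let J := p ^ n
  let E := C₂ ⧸ J
  haveI : Module.Finite A₁ E := finite_quotient_pow p n
  let K := J.map γ.toRingHom
  let P := D₂ ⧸ K
  let X := E ⊗[A₁] B₁
  letI : Algebra B₁ X := (Algebra.TensorProduct.includeRight : B₁ →ₐ[A₁] X).toRingHom.toAlgebra
  haveI : IsScalarTower A₁ B₁ X := IsScalarTower.of_algebraMap_eq (R := A₁) (S := B₁) (A := X) fun a =>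
    ((Algebra.TensorProduct.includeRight : B₁ →ₐ[A₁] X).commutes a).symm
  haveI : Module.Finite B₁ X := by
    classical
    obtain ⟨s, hs⟩ := (Module.Finite.fg_top (R := A₁) (M := E))
    refine ⟨⟨s.image fun e => (e ⊗ₜ[A₁] (1 : B₁) : X), top_le_iff.1 fun x hx => ?_⟩⟩
    clear hx
    induction x using TensorProduct.induction_on with
    | zero => exact zero_mem _
    | add a b ha hb => exact add_mem ha hb
    | tmul e b =>
      have he : e ∈ Submodule.span A₁ (s : Set E) := hs ▸ Submodule.mem_top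
      induction he using Submodule.span_induction generalizing b with
      | mem w hw =>
        have : (w ⊗ₜ[A₁] b : X) = b • (w ⊗ₜ[A₁] (1 : B₁) : X) := by
          rw [Algebra.smul_def]
          change _ = ((1 : E) ⊗ₜ[A₁] b) * (w ⊗ₜ[A₁] (1 : B₁))
          rw [Algebra.TensorProduct.tmul_mul_tmul, one_mul, mul_one]
        rw [this]
        exact Submodule.smul_mem _ _ (Submodule.subset_span (Finset.mem_image_of_mem _ hw))
      | zero => rw [TensorProduct.zero_tmul]; exact zero_mem _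
      | add a c _ _ ha hc => rw [TensorProduct.add_tmul]; exact add_mem (ha b) (hc b)
      | smul c a _ ha => rw [TensorProduct.smul_tmul]; exact ha _
  haveI : IsAdicComplete (I.map (algebraMap A₁ X)) X := by
    rw [IsScalarTower.algebraMap_eq A₁ B₁ X, ← Ideal.map_map, IsAdicComplete.map_algebraMap_iff]
    exact Complete.isAdicComplete_of_finite
  haveI : IsAdicComplete (I.map (algebraMap A₁ P)) P := by
    rw [IsScalarTower.algebraMap_eq A₁ D₂ P, ← Ideal.map_map]
    exact Complete.isAdicComplete_quotient K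
  let u : E →ₐ[A₁] P := Ideal.quotientMapₐ K γ Ideal.le_comap_map
  let v : B₁ →ₐ[A₁] P := (Ideal.Quotient.mkₐ A₁ K).comp β
  let Φ : X →ₐ[A₁] P := Algebra.TensorProduct.lift u v fun _ _ => Commute.all _ _
  obtain ⟨W, hWγ, hWβ⟩ := hpush.exists_hom X
    ((Algebra.TensorProduct.includeLeft : E →ₐ[A₁] X).comp (Ideal.Quotient.mkₐ A₁ J))
    (Algebra.TensorProduct.includeRight : B₁ →ₐ[A₁] X)
  have hK : K ≤ RingHom.ker W := Ideal.map_le_iff_le_comap.2 fun c hc => by
    rw [Ideal.mem_comap, RingHom.mem_ker]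
    change W (γ c) = 0
    rw [← AlgHom.comp_apply, hWγ, AlgHom.comp_apply, Ideal.Quotient.mkₐ_eq_mk,
      Ideal.Quotient.eq_zero_iff_mem.2 hc, map_zero]
  let Ψ : P →ₐ[A₁] X := Ideal.Quotient.liftₐ K W hK
  have hΨΦ : Ψ.comp Φ = AlgHom.id A₁ X := by
    refine Algebra.TensorProduct.ext' fun e b => ?_
    obtain ⟨c, rfl⟩ := Ideal.Quotient.mk_surjective e
    change Ψ (Φ (Ideal.Quotient.mk J c ⊗ₜ b)) = _
    rw [Algebra.TensorProduct.lift_tmul]
    change Ψ (Ideal.Quotient.mk K (γ c) * Ideal.Quotient.mk K (β b)) = _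
    rw [← map_mul]
    change W (γ c * β b) = _
    rw [map_mul, ← AlgHom.comp_apply, hWγ, ← AlgHom.comp_apply W β, hWβ]
    change (Ideal.Quotient.mk J c ⊗ₜ[A₁] (1 : B₁)) * ((1 : E) ⊗ₜ[A₁] b) = _
    rw [Algebra.TensorProduct.tmul_mul_tmul, mul_one, one_mul]
    rfl
  have hΦW : Φ.comp W = Ideal.Quotient.mkₐ A₁ K := by
    refine hpush.ext P _ _ ?_ ?_
    · rw [AlgHom.comp_assoc, hWγ]
      refine AlgHom.ext fun c => ?_
      exact (Algebra.TensorProduct.lift_tmul u v (fun _ _ => Commute.all _ _) (Ideal.Quotient.mk J c) 1).trans (by rw [map_one, mul_one] <;> rfl)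
    · rw [AlgHom.comp_assoc, hWβ]
      refine AlgHom.ext fun b => ?_
      exact (Algebra.TensorProduct.lift_tmul u v (fun _ _ => Commute.all _ _) 1 b).trans (by rw [map_one, one_mul] <;> rfl)
  have hΦ : Function.Bijective Φ := by
    refine ⟨(Function.LeftInverse.injective (g := Ψ) fun x => AlgHom.congr_fun hΨΦ x), fun y => ?_⟩
    obtain ⟨d, rfl⟩ := Ideal.Quotient.mk_surjective y
    exact ⟨W d, AlgHom.congr_fun hΦW d⟩
  -- localise at the point
  let K' : Ideal S := J.map (algebraMap C₂ S)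
  let Y := S ⧸ K'
  have hK' : K' = K.map (algebraMap D₂ S) :=
    (congrArg (fun θ => J.map θ) (IsScalarTower.algebraMap_eq C₂ D₂ S)).trans (Ideal.map_map _ _).symm
  have hle : K ≤ K'.comap (algebraMap D₂ S) := Ideal.map_le_iff_le_comap.1 hK'.ge
  let π : P →ₐ[A₁] Y := Ideal.quotientMapₐ K' (IsScalarTower.toAlgHom A₁ D₂ S) hle
  let qB := q.comap β.toRingHom
  let LB := Localization.AtPrime qB
  have hu : ∀ y : qB.primeCompl, IsUnit ((π.comp v) y) := fun y => by
    change IsUnit (Ideal.Quotient.mk K' (algebraMap D₂ S (β y)))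
    exact (IsLocalization.map_units S (⟨β y, y.2⟩ : q.primeCompl)).map _
  let v' : LB →ₐ[A₁] Y := IsLocalization.liftAlgHom (f := π.comp v) hu
  have h1 : (π.comp u).toRingHom.Flat := by
    refine flat_of_tensor (LB := LB) qB.primeCompl (π.comp u) (π.comp v) v'
      (fun b => IsLocalization.lift_eq _ b) ?_
    have : (Algebra.TensorProduct.lift (π.comp u) (π.comp v) fun _ _ => Commute.all _ _) = π.comp Φ := by
      refine Algebra.TensorProduct.ext' fun e b => ?_
      change _ = π (Φ (e ⊗ₜ[A₁] b))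
      rw [show Φ (e ⊗ₜ[A₁] b) = u e * v b from Algebra.TensorProduct.lift_tmul u v _ e b, map_mul]
      exact Algebra.TensorProduct.lift_tmul _ _ _ e b
    rw [this]
    refine (RingHom.Flat.of_bijective (f := Φ.toRingHom) hΦ).comp ?_
    haveI : Module.Flat D₂ S := IsLocalization.flat _ q.primeCompl
    exact flat_quotientMap K K' hK' hle
  have h2 : algebraMap E Y = (π.comp u).toRingHom := by
    refine Ideal.Quotient.ringHom_ext (RingHom.ext fun c => ?_)
    change Ideal.Quotient.mk K' (algebraMap C₂ S c) = Ideal.Quotient.mk K' (algebraMap D₂ S (γ c))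
    rw [IsScalarTower.algebraMap_apply C₂ D₂ S]
    rfl
  haveI : Module.Flat E Y := RingHom.flat_algebraMap_iff.1 (h2 ▸ h1)
  exact Module.Flat.of_linearEquiv (Algebra.TensorProduct.quotIdealMapEquivQuotTensor S J).symm.toLinearEquiv

end Groth.Agent.Lib.Adic.RigBaseChange
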