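import Groth.Agent.S8838
import Groth.Agent.Lib.LocalFlat.Criterion

/-! Unramified points of adic morphisms and flatness over them. -/

set_option autoImplicit false
set_option linter.style.haveILetI false

universe u

open scoped TensorProduct

namespace Groth.Agent.Lib.Adic.RigEtale

/-- `pB_q` is maximal at rig-closed points over rig-closed points, if `A → B` is unramified modulo `I`. -/
theorem maximalIdeal_eq {A : Type u} [CommRing A] [IsNoetherianRing A] (I : Ideal A) [IsAdicComplete I A]
    {B : Type u} [CommRing B] [Algebra A B] [IsNoetherianRing B] [IsAdicComplete (I.map (algebraMap A B)) B]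
    (hft : Algebra.FiniteType A (B ⧸ I.map (algebraMap A B)))
    [Algebra.FormallyUnramified A (B ⧸ I.map (algebraMap A B))] (q : PrimeSpectrum B)
    (hrc : RigClosed.IsRigClosed I (PrimeSpectrum.comap (algebraMap A B) q)) :
    ((PrimeSpectrum.comap (algebraMap A B) q).asIdeal.map (algebraMap A B)).map
        (algebraMap B (Localization.AtPrime q.asIdeal)) =
      IsLocalRing.maximalIdeal (Localization.AtPrime q.asIdeal) := by
  let p := PrimeSpectrum.comap (algebraMap A B) q
  let K := p.asIdeal.map (algebraMap A B)
  let E := B ⧸ K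
  haveI hc : IsAdicComplete (I.map (algebraMap A E)) E := by
    rw [IsScalarTower.algebraMap_eq A B E, ← Ideal.map_map]
    exact Complete.isAdicComplete_quotient K
  haveI : IsArtinianRing (A ⧸ I ⊔ p.asIdeal) := by
    refine isArtinianRing_iff_isNoetherianRing_krullDimLE_zero.2 ⟨inferInstance, ?_⟩
    refine Ring.KrullDimLE.mk₀ fun P hP => ?_
    have hle := RigClosed.le_comap_mk (I ⊔ p.asIdeal) P
    have hmax := RigClosed.isMaximal_of_lt (I := I) hrc
      (hP.comap (Ideal.Quotient.mk (I ⊔ p.asIdeal))) (le_sup_right.trans hle) (le_sup_left.trans hle)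
    rw [← Ideal.map_comap_of_surjective _ Ideal.Quotient.mk_surjective P]
    refine Ideal.IsMaximal.map_of_surjective_of_ker_le Ideal.Quotient.mk_surjective ?_
    rw [Ideal.mk_ker]
    exact hle
  have hle : I.map (algebraMap A B) ≤ (I.map (algebraMap A E)).comap (Ideal.Quotient.mkₐ A K) := by
    rw [Ideal.map_le_iff_le_comap]
    intro a ha
    exact Ideal.mem_map_of_mem (algebraMap A E) ha
  let φ : (B ⧸ I.map (algebraMap A B)) →ₐ[A] E ⧸ I.map (algebraMap A E) :=
    Ideal.quotientMapₐ _ (Ideal.Quotient.mkₐ A K) hle
  have hφ : Function.Surjective φ := Ideal.quotientMap_surjective (H := hle) Ideal.Quotient.mk_surjective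
  haveI : Algebra.FiniteType A (E ⧸ I.map (algebraMap A E)) := hft.of_surjective φ hφ
  haveI : Algebra.FormallyUnramified A (E ⧸ I.map (algebraMap A E)) :=
    Algebra.FormallyUnramified.of_surjective φ hφ
  have hbot : p.asIdeal.map (algebraMap A E) = ⊥ := by
    rw [IsScalarTower.algebraMap_eq A B E, ← Ideal.map_map, Ideal.Quotient.algebraMap_eq, Ideal.map_quotient_self]
  haveI : Module.Finite A E := EtaleRig.finite_of_unramified_mod I p.asIdeal hbot
  haveI : Algebra.FormallyUnramified A E :=
    EtaleRig.formallyUnramified_of_mod I (IsAdicComplete.le_jacobson_bot _)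
  refine le_antisymm ?_ (S8838.maximalIdeal_le p.asIdeal q.asIdeal rfl)
  rw [← Localization.AtPrime.map_eq_maximalIdeal]
  exact Ideal.map_mono (Ideal.map_le_iff_le_comap.2 le_rfl)

/-- Flatness passes to a local ring whose maximal ideal comes from the base. -/
theorem flat_of_unramified {L L' S : Type u} [CommRing L] [CommRing L'] [CommRing S] [Algebra L L']
    [Algebra L' S] [Algebra L S] [IsScalarTower L L' S] [IsLocalRing L'] [IsLocalRing S] [IsNoetherianRing L']
    [IsNoetherianRing S] [IsLocalHom (algebraMap L' S)] (M : Ideal L)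
    (hM : M.map (algebraMap L L') = IsLocalRing.maximalIdeal L') [Module.Flat L S] : Module.Flat L' S := by
  let m' := IsLocalRing.maximalIdeal L'
  have hne : m' ≠ ⊤ := (IsLocalRing.maximalIdeal.isMaximal L').ne_top
  letI : Field (L' ⧸ m') := Ideal.Quotient.field m'
  refine LocalFlat.Criterion.flat_of_injective_of_flat_quotient S m'
    (LocalFlat.Criterion.map_le_jacobson_bot_of_isLocalHom hne) ?_
  have hmem : ∀ x : M, algebraMap L L' x ∈ m' := fun x => hM.le (Ideal.mem_map_of_mem _ x.2)
  let g : S ⊗[L] M →ₗ[L] S ⊗[L'] m' := TensorProduct.lift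
    (LinearMap.mk₂ L (fun s x => s ⊗ₜ[L'] (⟨algebraMap L L' x, hmem x⟩ : m'))
      (fun a b x => TensorProduct.add_tmul a b _) (fun c a x => (TensorProduct.smul_tmul' c a _).symm)
      (fun s a b => by rw [← TensorProduct.tmul_add]; exact congrArg _ (Subtype.ext (map_add _ _ _)))
      (fun c s a => by
        rw [← TensorProduct.tmul_smul]
        refine congrArg _ (Subtype.ext ?_)
        change algebraMap L L' (c * a) = c • algebraMap L L' a
        rw [map_mul, Algebra.smul_def]))
  have hg : ∀ (s : S) (m : m'), s ⊗ₜ[L'] m ∈ LinearMap.range g := by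
    have key : ∀ m ∈ M.map (algebraMap L L'), ∀ (h : m ∈ m') (s : S),
        s ⊗ₜ[L'] (⟨m, h⟩ : m') ∈ LinearMap.range g := by
      intro m hm
      induction hm using Submodule.span_induction with
      | mem w hw =>
        obtain ⟨x, hx, rfl⟩ := hw
        exact fun h s => ⟨s ⊗ₜ ⟨x, hx⟩, rfl⟩
      | zero =>
        intro h s
        rw [show (⟨0, h⟩ : m') = 0 from rfl, TensorProduct.tmul_zero]
        exact zero_mem _
      | add a b ha' hb' ha hb =>
        intro h s
        have ha'' : a ∈ m' := hM.le ha'
        have hb'' : b ∈ m' := hM.le hb'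
        rw [show (⟨a + b, h⟩ : m') = ⟨a, ha''⟩ + ⟨b, hb''⟩ from rfl, TensorProduct.tmul_add]
        exact add_mem (ha ha'' s) (hb hb'' s)
      | smul c a ha' ha =>
        intro h s
        have ha'' : a ∈ m' := hM.le ha'
        rw [show (⟨c • a, h⟩ : m') = c • ⟨a, ha''⟩ from rfl, ← TensorProduct.smul_tmul]
        exact ha ha'' _
    exact fun s m => key m (hM.ge m.2) m.2 s
  have hsurj : Function.Surjective g := fun y => by
    induction y using TensorProduct.induction_on with
    | zero => exact ⟨0, map_zero g⟩
    | tmul s m => exact hg s m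
    | add a b ha hb =>
      obtain ⟨x, rfl⟩ := ha
      obtain ⟨y, rfl⟩ := hb
      exact ⟨x + y, map_add g x y⟩
  rw [injective_iff_map_eq_zero]
  intro y hy
  obtain ⟨x, rfl⟩ := hsurj y
  have hcomp : ∀ x, TensorProduct.rid L' S (m'.subtype.lTensor S (g x)) =
      TensorProduct.rid L S ((M.subtype).lTensor S x) := by
    intro x
    induction x using TensorProduct.induction_on with
    | zero => simp
    | tmul s a => exact (algebraMap_smul L' (a : L) s)
    | add a b ha hb => simp only [map_add, ha, hb]
  have h0 : (M.subtype).lTensor S x = 0 := by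
    rw [← LinearEquiv.map_eq_zero_iff (TensorProduct.rid L S), ← hcomp, hy, map_zero]
  rw [(Module.Flat.lTensor_preserves_injective_linearMap (M := S) M.subtype M.injective_subtype).eq_iff'
    (map_zero _) |>.1 h0, map_zero]

end Groth.Agent.Lib.Adic.RigEtale
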