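import Groth.Agent.Lib.Adic.RigPoints
import Groth.Agent.Lib.LocalFlat.Criterion

/-! Flatness over a completion at points where it is the base modulo powers. -/

set_option autoImplicit false
set_option linter.style.haveILetI false

universe u

open scoped TensorProduct

namespace Groth.Agent.Lib.Adic.RigFlat

/-- Flatness over `L'` from flatness over `L` when both agree modulo all powers of the maximal ideal. -/
theorem flat_of_pow {L L' S : Type u} [CommRing L] [CommRing L'] [CommRing S] [Algebra L L'] [Algebra L' S]
    [Algebra L S] [IsScalarTower L L' S] [IsLocalRing L'] [IsLocalRing S] [IsNoetherianRing L']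
    [IsNoetherianRing S] [IsLocalHom (algebraMap L' S)] (M : Ideal L)
    (hM : M.map (algebraMap L L') = IsLocalRing.maximalIdeal L')
    (hsurj : ∀ (n : ℕ) (y : L'), ∃ x, y - algebraMap L L' x ∈ IsLocalRing.maximalIdeal L' ^ n)
    [Module.Flat L S] : Module.Flat L' S := by
  refine LocalFlat.Criterion.flat_of_flat_quotient_pow S (IsLocalRing.maximalIdeal L')
    (LocalFlat.Criterion.map_le_jacobson_bot_of_isLocalHom (IsLocalRing.maximalIdeal.isMaximal L').ne_top)
    fun n => ?_
  let E := L' ⧸ IsLocalRing.maximalIdeal L' ^ n
  have key : ∀ (y : L') (e : E) (s : S), ((y • e) ⊗ₜ[L] s : E ⊗[L] S) = e ⊗ₜ[L] (y • s) := by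
    have hN : ∀ z ∈ (M ^ n).map (algebraMap L L'), ∀ (e : E) (s : S), (e ⊗ₜ[L] (z • s) : E ⊗[L] S) = 0 := by
      intro z hz
      induction hz using Submodule.span_induction with
      | mem w hw =>
        obtain ⟨a, ha, rfl⟩ := hw
        intro e s
        rw [algebraMap_smul, ← TensorProduct.smul_tmul]
        obtain ⟨e, rfl⟩ := Ideal.Quotient.mk_surjective e
        have : a • (Ideal.Quotient.mk (IsLocalRing.maximalIdeal L' ^ n) e) = 0 := by
          rw [Algebra.smul_def, IsScalarTower.algebraMap_apply L L', Ideal.Quotient.algebraMap_eq,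
            ← map_mul, Ideal.Quotient.eq_zero_iff_mem, ← hM, ← Ideal.map_pow]
          exact Ideal.mul_mem_right _ _ (Ideal.mem_map_of_mem _ ha)
        rw [this, TensorProduct.zero_tmul]
      | zero => intro e s; rw [zero_smul, TensorProduct.tmul_zero]
      | add a b _ _ ha hb => intro e s; rw [add_smul, TensorProduct.tmul_add, ha, hb, add_zero]
      | smul c a _ ha => intro e s; rw [smul_eq_mul, mul_comm, mul_smul]; exact ha e _
    intro y e s
    obtain ⟨x, hx⟩ := hsurj n y
    have h1 : y • e = x • e := by
      rw [← algebraMap_smul L' x e, ← sub_eq_zero, ← sub_smul]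
      obtain ⟨e, rfl⟩ := Ideal.Quotient.mk_surjective e
      rw [Algebra.smul_def, Ideal.Quotient.algebraMap_eq, ← map_mul, Ideal.Quotient.eq_zero_iff_mem]
      exact Ideal.mul_mem_right _ _ hx
    rw [h1, TensorProduct.smul_tmul]
    have h2 := hN (y - algebraMap L L' x) (by rw [Ideal.map_pow, hM]; exact hx) e s
    rw [sub_smul, algebraMap_smul, TensorProduct.tmul_sub, sub_eq_zero] at h2
    exact h2.symm
  haveI : TensorProduct.CompatibleSMul L L' E S := ⟨key⟩
  exact Module.Flat.of_linearEquiv (TensorProduct.equivOfCompatibleSMul L L' E E S)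

/-- Flatness over the completion at a point. -/
theorem flat_of_point {R T S : Type u} [CommRing R] [CommRing T] [CommRing S] [Algebra R T] [Algebra T S]
    [Algebra R S] [IsScalarTower R T S] [IsNoetherianRing T] [Module.Flat R T] [Module.Flat R S]
    [IsLocalRing S] [IsNoetherianRing S] (Q : Ideal T) [Q.IsPrime]
    (hQ : (IsLocalRing.maximalIdeal S).comap (algebraMap T S) = Q)
    (hmap : (Q.comap (algebraMap R T)).map (algebraMap R T) = Q)
    (hres : ∀ t, ∃ r, t - algebraMap R T r ∈ Q) : Module.Flat T S := by
  have hunit : ∀ y : Q.primeCompl, IsUnit (algebraMap T S y) := fun y => by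
    by_contra h
    exact y.2 (hQ.le ((IsLocalRing.mem_maximalIdeal _).2 h))
  let ψ : Localization.AtPrime Q →+* S := IsLocalization.lift hunit
  letI := ψ.toAlgebra
  haveI : IsScalarTower T (Localization.AtPrime Q) S :=
    IsScalarTower.of_algebraMap_eq (R := T) (S := Localization.AtPrime Q) (A := S) fun x =>
      (IsLocalization.lift_eq hunit x).symm
  let P := Q.comap (algebraMap R T)
  let φ := Localization.localRingHom P Q (algebraMap R T) rfl
  letI := φ.toAlgebra
  haveI : IsScalarTower R (Localization.AtPrime P) (Localization.AtPrime Q) :=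
    IsScalarTower.of_algebraMap_eq (R := R) (S := Localization.AtPrime P) (A := Localization.AtPrime Q) fun x => by
      rw [RingHom.algebraMap_toAlgebra, Localization.localRingHom_to_map, ← IsScalarTower.algebraMap_apply]
  letI : Algebra (Localization.AtPrime P) S := (ψ.comp φ).toAlgebra
  haveI : IsScalarTower (Localization.AtPrime P) (Localization.AtPrime Q) S :=
    IsScalarTower.of_algebraMap_eq (R := Localization.AtPrime P) (S := Localization.AtPrime Q) (A := S) fun _ => rfl
  haveI : IsScalarTower R (Localization.AtPrime P) S :=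
    IsScalarTower.of_algebraMap_eq (R := R) (S := Localization.AtPrime P) (A := S) fun x => by
      change _ = ψ (φ (algebraMap R _ x))
      rw [Localization.localRingHom_to_map, IsScalarTower.algebraMap_apply R T S]
      exact (IsLocalization.lift_eq hunit _).symm
  haveI : Module.Flat (Localization.AtPrime P) S :=
    (Module.flat_iff_of_isLocalization (Localization.AtPrime P) P.primeCompl S).2 ‹_›
  haveI : IsLocalHom (algebraMap (Localization.AtPrime Q) S) := ⟨fun x hx => by
    obtain ⟨t, s, rfl⟩ := IsLocalization.exists_mk'_eq Q.primeCompl x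
    rw [IsLocalization.AtPrime.isUnit_mk'_iff (Localization.AtPrime Q) Q]
    intro ht
    have h1 : algebraMap T S t ∈ IsLocalRing.maximalIdeal S := hQ.ge ht
    apply h1
    have h2 : algebraMap (Localization.AtPrime Q) S (IsLocalization.mk' _ t s) * algebraMap T S s.1 =
        algebraMap T S t := by
      rw [IsScalarTower.algebraMap_apply T (Localization.AtPrime Q) S s.1, ← map_mul,
        IsLocalization.mk'_spec, ← IsScalarTower.algebraMap_apply]
    rw [← h2]
    exact hx.mul (hunit s)⟩
  haveI : IsNoetherianRing (Localization.AtPrime Q) :=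
    IsLocalization.isNoetherianRing Q.primeCompl _ inferInstance
  haveI : Module.Flat (Localization.AtPrime Q) S :=
    flat_of_pow (L := Localization.AtPrime P) (IsLocalRing.maximalIdeal _) (by
      rw [← Localization.AtPrime.map_eq_maximalIdeal, ← Localization.AtPrime.map_eq_maximalIdeal, Ideal.map_map]
      refine Eq.trans ?_ (congrArg (Ideal.map (algebraMap T (Localization.AtPrime Q))) hmap)
      rw [Ideal.map_map]
      exact congrArg (fun g : R →+* Localization.AtPrime Q => P.map g)
        (RingHom.ext fun x => Localization.localRingHom_to_map P Q _ rfl x))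
      fun n => (RigPoints.quotient_pow_bijective P Q rfl hmap hres n).2
  haveI : Module.Flat T (Localization.AtPrime Q) := IsLocalization.flat _ Q.primeCompl
  exact Module.Flat.trans T (Localization.AtPrime Q) S

end Groth.Agent.Lib.Adic.RigFlat
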