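import Groth.Agent.Lib.Adic.RigClosed
import Groth.Agent.Lib.Adic.RigLoc
import Groth.Agent.H30.Compl
import Mathlib.RingTheory.Flat.FaithfullyFlat.Algebra
import Mathlib.RingTheory.LocalRing.RingHom.Basic

/-! Rig-closed primes of completions. -/

set_option autoImplicit false
set_option linter.style.haveILetI false
set_option linter.unusedSectionVars false

universe u

namespace Groth.Agent.Lib.Adic.RigPoints

variable {A : Type u} [CommRing A] [IsNoetherianRing A] (I : Ideal A) [IsAdicComplete I A]
variable {R : Type u} [CommRing R] [IsNoetherianRing R] [Algebra A R]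

theorem exists_sub_mem (J : Ideal R) (t : AdicCompletion J R) :
    ∃ r : R, t - algebraMap R (AdicCompletion J R) r ∈ J.map (algebraMap R (AdicCompletion J R)) := by
  let e := H30.Compl.quotPowEquiv J (IsNoetherian.noetherian J) 1
  obtain ⟨r, hr⟩ := Ideal.Quotient.mk_surjective (e (Ideal.Quotient.mk _ t))
  rw [← H30.Compl.quotPowEquiv_algebraMap J (IsNoetherian.noetherian J) 1 r] at hr
  have := Ideal.Quotient.eq.1 (e.injective hr).symm
  rw [pow_one] at this
  exact ⟨r, this⟩

theorem isAdicComplete_completion :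
    IsAdicComplete (I.map (algebraMap A (AdicCompletion (I.map (algebraMap A R)) R)))
      (AdicCompletion (I.map (algebraMap A R)) R) := by
  rw [IsScalarTower.algebraMap_eq A R (AdicCompletion (I.map (algebraMap A R)) R), ← Ideal.map_map,
    IsAdicComplete.map_algebraMap_iff]
  exact AdicCompletion.isAdicComplete (IsNoetherian.noetherian _)

theorem finiteType_quotient [Algebra.FiniteType A R] :
    Algebra.FiniteType A (AdicCompletion (I.map (algebraMap A R)) R ⧸
      I.map (algebraMap A (AdicCompletion (I.map (algebraMap A R)) R))) := by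
  refine (inferInstance : Algebra.FiniteType A R).of_surjective
    ((Ideal.Quotient.mkₐ A _).comp (IsScalarTower.toAlgHom A R _)) fun y => ?_
  obtain ⟨t, rfl⟩ := Ideal.Quotient.mk_surjective y
  obtain ⟨r, hr⟩ := exists_sub_mem (I.map (algebraMap A R)) t
  refine ⟨r, (Ideal.Quotient.eq.2 ?_).symm⟩
  rw [Ideal.map_map, ← IsScalarTower.algebraMap_eq] at hr
  exact hr

/-- A prime of the completion with finite quotient over the base comes from the ring and has the same
quotient. -/
theorem of_finite (q : Ideal (AdicCompletion (I.map (algebraMap A R)) R))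
    [Module.Finite A (AdicCompletion (I.map (algebraMap A R)) R ⧸ q)] :
    (∀ t : AdicCompletion (I.map (algebraMap A R)) R, ∃ r : R,
      t - algebraMap R _ r ∈ q) ∧
    IsAdicComplete (I.map (algebraMap A R)) (R ⧸ q.comap (algebraMap R _)) ∧
    (q.comap (algebraMap R (AdicCompletion (I.map (algebraMap A R)) R))).map (algebraMap R _) = q := by
  let T := AdicCompletion (I.map (algebraMap A R)) R
  let g : R →ₐ[A] T ⧸ q := (Ideal.Quotient.mkₐ A q).comp (IsScalarTower.toAlgHom A R T)
  haveI : IsNoetherian A (T ⧸ q) := isNoetherian_of_isNoetherianRing_of_finite A (T ⧸ q)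
  haveI : IsHausdorff I (T ⧸ q) := (Complete.isAdicComplete_of_finite (I := I)).toIsHausdorff
  have htop : LinearMap.range g.toLinearMap = ⊤ := by
    refine top_le_iff.1 (Complete.le_of_le_sup_smul (I := I) (IsNoetherian.noetherian _) le_top ?_)
    intro y _
    obtain ⟨t, rfl⟩ := Ideal.Quotient.mk_surjective y
    obtain ⟨r, hr⟩ := exists_sub_mem (I.map (algebraMap A R)) t
    refine Submodule.mem_sup.2 ⟨g r, ⟨r, rfl⟩, Ideal.Quotient.mk q (t - algebraMap R T r), ?_, ?_⟩
    · rw [Ideal.smul_top_eq_map]
      rw [Ideal.map_map, ← IsScalarTower.algebraMap_eq] at hr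
      have := Ideal.mem_map_of_mem (Ideal.Quotient.mk q) hr
      rw [Ideal.map_map] at this
      exact this
    · change Ideal.Quotient.mk q (algebraMap R T r) + _ = _
      rw [← map_add, add_sub_cancel]
  have hsurj : Function.Surjective g := fun y => LinearMap.mem_range.1 (htop ▸ Submodule.mem_top : y ∈ LinearMap.range g.toLinearMap)
  have hsub : ∀ t : T, ∃ r : R, t - algebraMap R T r ∈ q := fun t => by
    obtain ⟨r, hr⟩ := hsurj (Ideal.Quotient.mk q t)
    exact ⟨r, Ideal.Quotient.eq.1 hr.symm⟩
  let P := q.comap (algebraMap R T)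
  haveI : Module.Finite A (R ⧸ P) := by
    let φ : (R ⧸ P) →ₐ[A] T ⧸ q := Ideal.quotientMapₐ q (IsScalarTower.toAlgHom A R T) le_rfl
    exact Module.Finite.of_injective φ.toLinearMap (Ideal.quotientMap_injective (I := q))
  haveI hc : IsAdicComplete (I.map (algebraMap A R)) (R ⧸ P) := RigLoc.isAdicComplete_of_finite P I
  exact ⟨hsub, hc, (RigLoc.eq_map_of_comap_eq _ P q rfl).symm⟩

end Groth.Agent.Lib.Adic.RigPoints

namespace Groth.Agent.Lib.Adic.RigPoints

variable {R T : Type u} [CommRing R] [CommRing T] [Algebra R T]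

/-- A flat local map with `mT` maximal and trivial residue extension is an isomorphism modulo powers. -/
theorem quotient_pow_bijective [Module.Flat R T] (P : Ideal R) (Q : Ideal T) [P.IsPrime] [Q.IsPrime]
    (h : P = Q.comap (algebraMap R T)) (hmap : P.map (algebraMap R T) = Q)
    (hres : ∀ t, ∃ r, t - algebraMap R T r ∈ Q) (m : ℕ) :
    (∀ x, Localization.localRingHom P Q (algebraMap R T) h x ∈
        IsLocalRing.maximalIdeal (Localization.AtPrime Q) ^ m →
      x ∈ IsLocalRing.maximalIdeal (Localization.AtPrime P) ^ m) ∧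
    ∀ y, ∃ x, y - Localization.localRingHom P Q (algebraMap R T) h x ∈
      IsLocalRing.maximalIdeal (Localization.AtPrime Q) ^ m := by
  let φ := Localization.localRingHom P Q (algebraMap R T) h
  letI := φ.toAlgebra
  haveI : IsScalarTower R (Localization.AtPrime P) (Localization.AtPrime Q) :=
    IsScalarTower.of_algebraMap_eq (R := R) (S := Localization.AtPrime P) (A := Localization.AtPrime Q) fun x => by
      rw [RingHom.algebraMap_toAlgebra, Localization.localRingHom_to_map, ← IsScalarTower.algebraMap_apply]
  haveI : Module.Flat T (Localization.AtPrime Q) := IsLocalization.flat _ Q.primeCompl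
  haveI : Module.Flat R (Localization.AtPrime Q) := Module.Flat.trans R T _
  haveI : Module.Flat (Localization.AtPrime P) (Localization.AtPrime Q) :=
    (Module.flat_iff_of_isLocalization (Localization.AtPrime P) P.primeCompl (Localization.AtPrime Q)).2 ‹_›
  haveI : IsLocalHom (algebraMap (Localization.AtPrime P) (Localization.AtPrime Q)) :=
    Localization.isLocalHom_localRingHom P Q (algebraMap R T) h
  haveI : Module.FaithfullyFlat (Localization.AtPrime P) (Localization.AtPrime Q) :=
    Module.FaithfullyFlat.of_flat_of_isLocalHom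
  have hmax : (IsLocalRing.maximalIdeal (Localization.AtPrime P)).map φ =
      IsLocalRing.maximalIdeal (Localization.AtPrime Q) := by
    rw [← Localization.AtPrime.map_eq_maximalIdeal, ← Localization.AtPrime.map_eq_maximalIdeal,
      Ideal.map_map]
    refine Eq.trans ?_ (congrArg (Ideal.map (algebraMap T (Localization.AtPrime Q))) hmap)
    rw [Ideal.map_map]
    exact congrArg (fun g : R →+* Localization.AtPrime Q => P.map g) (RingHom.ext fun x => Localization.localRingHom_to_map P Q _ h x)
  refine ⟨fun x hx => ?_, ?_⟩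
  · rw [← hmax, ← Ideal.map_pow] at hx
    exact (Ideal.comap_map_eq_self_of_faithfullyFlat (B := Localization.AtPrime Q) _).le hx
  induction m with
  | zero => exact fun y => ⟨0, by simp⟩
  | succ m ih =>
    have h1 : ∀ y, ∃ x, y - φ x ∈ IsLocalRing.maximalIdeal (Localization.AtPrime Q) := by
      intro y
      obtain ⟨t, s, rfl⟩ := IsLocalization.exists_mk'_eq Q.primeCompl y
      obtain ⟨r, hr⟩ := hres t
      obtain ⟨σ, hσ⟩ := hres s.1
      have hσP : σ ∉ P := fun hm => s.2 (by
        have := Q.add_mem hσ (Ideal.mem_comap.1 (h ▸ hm))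
        simpa using this)
      refine ⟨IsLocalization.mk' _ r (⟨σ, hσP⟩ : P.primeCompl), ?_⟩
      rw [Localization.localRingHom_mk', ← IsLocalization.mk'_sub, IsLocalization.AtPrime.mk'_mem_maximal_iff (Localization.AtPrime Q) Q]
      change t * algebraMap R T σ - algebraMap R T r * s.1 ∈ Q
      have : t * algebraMap R T σ - algebraMap R T r * s.1 =
          (t - algebraMap R T r) * s.1 - t * (s.1 - algebraMap R T σ) := by ring
      rw [this]
      exact Q.sub_mem (Q.mul_mem_right _ hr) (Q.mul_mem_left _ hσ)
    intro y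
    obtain ⟨x, hx⟩ := ih y
    suffices ∀ z ∈ IsLocalRing.maximalIdeal (Localization.AtPrime Q) ^ m,
        ∃ x ∈ IsLocalRing.maximalIdeal (Localization.AtPrime P) ^ m,
          z - φ x ∈ IsLocalRing.maximalIdeal (Localization.AtPrime Q) ^ (m + 1) by
      obtain ⟨x', -, hx'⟩ := this _ hx
      exact ⟨x + x', by rwa [map_add, ← sub_sub]⟩
    intro z hz
    rw [← hmax, ← Ideal.map_pow] at hz
    induction hz using Submodule.span_induction with
    | mem w hw =>
      obtain ⟨w, hw, rfl⟩ := hw
      exact ⟨w, hw, by simp [φ]⟩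
    | zero => exact ⟨0, zero_mem _, by simp⟩
    | add a b _ _ ha hb =>
      obtain ⟨x, hx, hx'⟩ := ha
      obtain ⟨x', hx₂, hx₂'⟩ := hb
      exact ⟨x + x', add_mem hx hx₂, by rw [map_add, add_sub_add_comm]; exact add_mem hx' hx₂'⟩
    | smul c a ha' ha =>
      obtain ⟨x, hx, hx'⟩ := ha
      obtain ⟨c', hc'⟩ := h1 c
      refine ⟨c' * x, Ideal.mul_mem_left _ _ hx, ?_⟩
      have ha2 : a ∈ IsLocalRing.maximalIdeal (Localization.AtPrime Q) ^ m := by
        rw [← hmax, ← Ideal.map_pow]
        exact ha'
      have : c • a - φ (c' * x) = (c - φ c') * a + φ c' * (a - φ x) := by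
        rw [map_mul, smul_eq_mul]; ring
      rw [this]
      refine add_mem ?_ (Ideal.mul_mem_left _ _ hx')
      rw [pow_succ']
      exact Ideal.mul_mem_mul hc' ha2

end Groth.Agent.Lib.Adic.RigPoints
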