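import Groth.Agent.Lib.Adic.RigPoints
import Groth.Agent.S8840
import Groth.Agent.Lib.LocalFlat.Criterion
import Mathlib.RingTheory.AdicCompletion.RingHom
import Mathlib.RingTheory.Localization.Submodule
import Mathlib.RingTheory.Localization.InvSubmonoid
import Mathlib.RingTheory.Flat.Localization
import Mathlib.RingTheory.RingHom.Flat
import Groth.Agent.Lib.SourceDescent.Ring

/-! Functoriality of completed principal localisations, their flatness, and transfer of rig-closed
points between them. -/

set_option autoImplicit false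
set_option linter.style.haveILetI false
set_option linter.unusedSectionVars false

universe u

open scoped TensorProduct

namespace Groth.Agent.Lib.Adic.RigFunct

section Hom

variable {S X : Type u} [CommRing S] [CommRing X]

theorem exists_sub_mem_pow (J : Ideal S) (hJ : J.FG) (n : ℕ) (x : AdicCompletion J S) :
    ∃ s : S, x - algebraMap S _ s ∈ J.map (algebraMap S (AdicCompletion J S)) ^ n := by
  let e := H30.Compl.quotPowEquiv J hJ n
  obtain ⟨r, hr⟩ := Ideal.Quotient.mk_surjective (e (Ideal.Quotient.mk _ x))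
  rw [← H30.Compl.quotPowEquiv_algebraMap J hJ n r] at hr
  exact ⟨r, Ideal.Quotient.eq.1 (e.injective hr).symm⟩

theorem ringHom_ext (J : Ideal S) (hJ : J.FG) (K : Ideal X) [IsHausdorff K X]
    {f g : AdicCompletion J S →+* X} (hK : J.map (f.comp (algebraMap S _)) ≤ K)
    (h : f.comp (algebraMap S _) = g.comp (algebraMap S _)) : f = g := by
  ext x
  rw [← sub_eq_zero]
  refine IsHausdorff.haus ‹IsHausdorff K X› _ fun n => ?_
  rw [SModEq.zero, smul_eq_mul, Ideal.mul_top]
  obtain ⟨s, hs⟩ := exists_sub_mem_pow J hJ n x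
  have key : ∀ φ : AdicCompletion J S →+* X, J.map (φ.comp (algebraMap S _)) ≤ K →
      φ x - φ.comp (algebraMap S _) s ∈ K ^ n := fun φ hφ => by
    have := Ideal.mem_map_of_mem φ hs
    rw [Ideal.map_pow, Ideal.map_map, map_sub] at this
    exact Ideal.pow_right_mono hφ n this
  have := sub_mem (key f hK) (key g (h ▸ hK))
  rwa [h, sub_sub_sub_cancel_right] at this

theorem exists_lift (J : Ideal S) (hJ : J.FG) (K : Ideal X) [IsAdicComplete K X] (χ : S →+* X)
    (h : J.map χ ≤ K) : ∃ φ : AdicCompletion J S →+* X, φ.comp (algebraMap S _) = χ := by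
  have hn : ∀ n, J ^ n ≤ (K ^ n).comap χ := fun n => by
    rw [← Ideal.map_le_iff_le_comap, Ideal.map_pow]
    exact Ideal.pow_right_mono h n
  let f : ∀ n, AdicCompletion J S →+* X ⧸ K ^ n := fun n =>
    (Ideal.quotientMap (K ^ n) χ (hn n)).comp (AdicCompletion.evalₐ J n).toRingHom
  have hf : ∀ n (s : S), f n (algebraMap S _ s) = Ideal.Quotient.mk _ (χ s) := fun n s => by
    change Ideal.quotientMap (K ^ n) χ (hn n) (AdicCompletion.evalₐ J n (algebraMap S _ s)) = _
    rw [AlgHom.commutes]
    rfl
  have hf0 : ∀ n (y : AdicCompletion J S),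
      y ∈ J.map (algebraMap S (AdicCompletion J S)) ^ n → f n y = 0 := fun n y hy => by
    rw [← H30.Compl.ker_evalₐ J hJ n, RingHom.mem_ker] at hy
    change Ideal.quotientMap (K ^ n) χ (hn n) ((AdicCompletion.evalₐ J n).toRingHom y) = _
    rw [hy, map_zero]
  have hcompat : ∀ {m n : ℕ} (hle : m ≤ n), (Ideal.Quotient.factorPow K hle).comp (f n) = f m := by
    intro m n hle
    ext x
    obtain ⟨s, hs⟩ := exists_sub_mem_pow J hJ n x
    have e : ∀ k, k ≤ n → f k x = Ideal.Quotient.mk (K ^ k) (χ s) := fun k hk => by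
      have := hf0 k _ (Ideal.pow_le_pow_right hk hs)
      rwa [map_sub, hf, sub_eq_zero] at this
    change Ideal.Quotient.factorPow K hle (f n x) = f m x
    rw [e n le_rfl, e m hle, Ideal.Quotient.factor_mk]
  refine ⟨IsAdicComplete.liftRingHom K f hcompat, RingHom.ext fun s => ?_⟩
  rw [← sub_eq_zero]
  refine IsHausdorff.haus (inferInstance : IsHausdorff K X) _ fun n => ?_
  rw [SModEq.zero, smul_eq_mul, Ideal.mul_top, ← Ideal.Quotient.eq, RingHom.comp_apply,
    IsAdicComplete.mk_liftRingHom, hf]

end Hom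

section CL

variable {R : Type u} [CommRing R]

/-- The completed principal localisation. -/
abbrev CL (J : Ideal R) (g : R) : Type u :=
  AdicCompletion (J.map (algebraMap R (Localization.Away g))) (Localization.Away g)

theorem map_ι (J : Ideal R) (g : R) :
    J.map (algebraMap R (CL J g)) =
      (J.map (algebraMap R (Localization.Away g))).map (algebraMap (Localization.Away g) (CL J g)) := by
  rw [Ideal.map_map, ← IsScalarTower.algebraMap_eq]

theorem isUnit_ι (J : Ideal R) (g : R) : IsUnit (algebraMap R (CL J g) g) := by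
  rw [IsScalarTower.algebraMap_apply R (Localization.Away g) (CL J g)]
  exact (IsLocalization.Away.algebraMap_isUnit g).map _

variable {X : Type u} [CommRing X]

theorem ext_CL (J : Ideal R) (hJ : J.FG) (g : R) (K : Ideal X) [IsHausdorff K X] {φ φ' : CL J g →+* X}
    (hK : J.map (φ.comp (algebraMap R _)) ≤ K)
    (h : φ.comp (algebraMap R _) = φ'.comp (algebraMap R _)) : φ = φ' := by
  refine ringHom_ext _ (hJ.map _) K ?_ (IsLocalization.ringHom_ext (Submonoid.powers g) ?_)
  · rwa [Ideal.map_map, RingHom.comp_assoc, ← IsScalarTower.algebraMap_eq]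
  · rwa [RingHom.comp_assoc, RingHom.comp_assoc, ← IsScalarTower.algebraMap_eq]

theorem exists_lift_CL (J : Ideal R) (hJ : J.FG) (g : R) (K : Ideal X) [IsAdicComplete K X]
    (χ : R →+* X) (hg : IsUnit (χ g)) (h : J.map χ ≤ K) :
    ∃ φ : CL J g →+* X, ∀ r, φ (algebraMap R _ r) = χ r := by
  obtain ⟨φ, hφ⟩ := exists_lift (J.map (algebraMap R (Localization.Away g))) (hJ.map _) K
    (IsLocalization.Away.lift g hg) (by
      rw [Ideal.map_map, IsLocalization.Away.lift_comp]
      exact h)
  refine ⟨φ, fun r => ?_⟩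
  rw [IsScalarTower.algebraMap_apply R (Localization.Away g) (CL J g), ← RingHom.comp_apply φ, hφ,
    IsLocalization.Away.lift_eq]

theorem isAdicComplete_CL (J : Ideal R) (hJ : J.FG) (g : R) :
    IsAdicComplete (J.map (algebraMap R (CL J g))) (CL J g) := by
  rw [map_ι, IsAdicComplete.map_algebraMap_iff]
  exact AdicCompletion.isAdicComplete (hJ.map _)

/-- The map between completed localisations induced by a ring map. -/
theorem exists_map {R' : Type u} [CommRing R'] (J : Ideal R) (hJ : J.FG) (g : R) (J' : Ideal R')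
    (hJ' : J'.FG) (g' : R') (χ : R →+* R') (hg : IsUnit (algebraMap R' (CL J' g') (χ g)))
    (h : J.map χ ≤ J') :
    ∃ φ : CL J g →+* CL J' g', ∀ r, φ (algebraMap R _ r) = algebraMap R' _ (χ r) := by
  haveI := isAdicComplete_CL J' hJ' g'
  exact exists_lift_CL J hJ g (J'.map (algebraMap R' _)) ((algebraMap R' _).comp χ) hg (by
    rw [← Ideal.map_map]
    exact Ideal.map_mono h)

theorem map_CL {A : Type u} [CommRing A] [Algebra A R] (I : Ideal A) (g : R) :
    ((I.map (algebraMap A R)).map (algebraMap R (Localization.Away g))).map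
        (algebraMap (Localization.Away g) (CL (I.map (algebraMap A R)) g)) =
      I.map (algebraMap A (CL (I.map (algebraMap A R)) g)) := by
  refine (map_ι _ g).symm.trans ((Ideal.map_map _ _).trans ?_)
  exact congrArg (fun φ => I.map φ) (IsScalarTower.algebraMap_eq A R (CL (I.map (algebraMap A R)) g)).symm

theorem isAdicComplete_CL' {A : Type u} [CommRing A] [Algebra A R] (I : Ideal A) (hI : I.FG) (g : R) :
    IsAdicComplete (I.map (algebraMap A (CL (I.map (algebraMap A R)) g))) (CL (I.map (algebraMap A R)) g) := by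
  rw [← map_CL, ← map_ι]
  exact isAdicComplete_CL _ (hI.map _) g

theorem compat_iff {R' : Type u} [CommRing R'] (J : Ideal R) (J' : Ideal R') (χ : R →+* R') (g : R)
    (ψ : CL J g →+* CL J' (χ g)) :
    ψ.comp (algebraMap (Localization.Away g) (CL J g)) =
        (algebraMap (Localization.Away (χ g)) (CL J' (χ g))).comp (Localization.awayMap χ g) ↔
      ∀ r, ψ (algebraMap R _ r) = algebraMap R' _ (χ r) := by
  have key : ∀ r, algebraMap (Localization.Away (χ g)) (CL J' (χ g))
      (Localization.awayMap χ g (algebraMap R _ r)) = algebraMap R' _ (χ r) := fun r => by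
    unfold Localization.awayMap IsLocalization.Away.map
    rw [IsLocalization.map_eq]
    exact (IsScalarTower.algebraMap_apply R' (Localization.Away (χ g)) _ (χ r)).symm
  constructor
  · intro h r
    rw [IsScalarTower.algebraMap_apply R (Localization.Away g) (CL J g), ← RingHom.comp_apply ψ, h,
      RingHom.comp_apply, key]
  · intro h
    refine IsLocalization.ringHom_ext (Submonoid.powers g) (RingHom.ext fun r => ?_)
    simp only [RingHom.comp_apply]
    rw [← IsScalarTower.algebraMap_apply R (Localization.Away g) (CL J g), h, key]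

theorem finiteType_CL {A : Type u} [CommRing A] [Algebra A R] [IsNoetherianRing R] (I : Ideal A) (g : R)
    (hft : Algebra.FiniteType A (R ⧸ I.map (algebraMap A R))) :
    Algebra.FiniteType A (CL (I.map (algebraMap A R)) g ⧸
      I.map (algebraMap A (CL (I.map (algebraMap A R)) g))) := by
  let J := I.map (algebraMap A R)
  let T := CL J g
  let K := I.map (algebraMap A T)
  have hKJ : J.map (algebraMap R T) = K :=
    (Ideal.map_map _ _).trans (congrArg (fun φ => I.map φ) (IsScalarTower.algebraMap_eq A R T).symm)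
  let σ : (R ⧸ J) →ₐ[A] T ⧸ K :=
    Ideal.quotientMapₐ K (IsScalarTower.toAlgHom A R T) (Ideal.map_le_iff_le_comap.1 hKJ.le)
  letI : Algebra (R ⧸ J) (T ⧸ K) := σ.toRingHom.toAlgebra
  haveI : IsScalarTower A (R ⧸ J) (T ⧸ K) :=
    IsScalarTower.of_algebraMap_eq (R := A) (S := R ⧸ J) (A := T ⧸ K) fun a => (σ.commutes a).symm
  obtain ⟨u, hu⟩ := isUnit_ι J g
  haveI : Algebra.FiniteType (R ⧸ J) (T ⧸ K) := by
    refine (inferInstance : Algebra.FiniteType (R ⧸ J) (Polynomial (R ⧸ J))).of_surjective
      (Polynomial.aeval (Ideal.Quotient.mk K ((u⁻¹ : Tˣ) : T))) fun y => ?_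
    obtain ⟨t, rfl⟩ := Ideal.Quotient.mk_surjective y
    obtain ⟨l, hl⟩ := exists_sub_mem_pow (J.map (algebraMap R (Localization.Away g)))
      (IsNoetherian.noetherian _) 1 t
    rw [pow_one, ← map_ι, hKJ] at hl
    obtain ⟨n, a, ha⟩ := IsLocalization.Away.surj g l
    refine ⟨Polynomial.C (Ideal.Quotient.mk J a) * Polynomial.X ^ n, ?_⟩
    rw [map_mul, map_pow, Polynomial.aeval_C, Polynomial.aeval_X, (Ideal.Quotient.eq.2 hl :
      Ideal.Quotient.mk K t = _)]
    change Ideal.Quotient.mk K (algebraMap R T a) * _ = _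
    have h : algebraMap R T a = algebraMap (Localization.Away g) T l * (u : T) ^ n := by
      rw [IsScalarTower.algebraMap_apply R (Localization.Away g) T, ← ha, map_mul, map_pow, hu,
        IsScalarTower.algebraMap_apply R (Localization.Away g) T]
    rw [← map_pow, ← map_mul, h, mul_assoc, ← mul_pow, Units.mul_inv, one_pow, mul_one]
  exact Algebra.FiniteType.trans (S := R ⧸ J) hft inferInstance

end CL

section Flat

/-- Flatness over `L'` from flatness over `L` when both agree modulo the powers of an ideal in the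
radical. -/
theorem flat_of_mod {L L' S : Type u} [CommRing L] [CommRing L'] [CommRing S] [Algebra L L'] [Algebra L' S]
    [Algebra L S] [IsScalarTower L L' S] [IsNoetherianRing L'] [IsNoetherianRing S] (M : Ideal L)
    (hM : (M.map (algebraMap L L')).map (algebraMap L' S) ≤ Ideal.jacobson ⊥)
    (hsurj : ∀ (n : ℕ) (y : L'), ∃ x, y - algebraMap L L' x ∈ M.map (algebraMap L L') ^ n)
    [Module.Flat L S] : Module.Flat L' S := by
  refine LocalFlat.Criterion.flat_of_flat_quotient_pow S (M.map (algebraMap L L')) hM fun n => ?_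
  let E := L' ⧸ M.map (algebraMap L L') ^ n
  have key : ∀ (y : L') (e : E) (s : S), ((y • e) ⊗ₜ[L] s : E ⊗[L] S) = e ⊗ₜ[L] (y • s) := by
    have hN : ∀ z ∈ (M ^ n).map (algebraMap L L'), ∀ (e : E) (s : S), (e ⊗ₜ[L] (z • s) : E ⊗[L] S) = 0 := by
      intro z hz
      induction hz using Submodule.span_induction with
      | mem w hw =>
        obtain ⟨a, ha, rfl⟩ := hw
        intro e s
        rw [algebraMap_smul, ← TensorProduct.smul_tmul]
        obtain ⟨e, rfl⟩ := Ideal.Quotient.mk_surjective e
        have : a • (Ideal.Quotient.mk (M.map (algebraMap L L') ^ n) e) = 0 := by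
          rw [Algebra.smul_def, IsScalarTower.algebraMap_apply L L', Ideal.Quotient.algebraMap_eq,
            ← map_mul, Ideal.Quotient.eq_zero_iff_mem, ← Ideal.map_pow]
          exact Ideal.mul_mem_right _ _ (Ideal.mem_map_of_mem _ ha)
        rw [this, TensorProduct.zero_tmul]
      | zero => intro e s; rw [zero_smul, TensorProduct.tmul_zero]
      | add a b _ _ ha hb => intro e s; rw [add_smul, TensorProduct.tmul_add, ha, hb, add_zero]
      | smul c a _ ha => intro e s; rw [smul_eq_mul, mul_comm, mul_smul]; exact ha e _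
    intro y e s
    obtain ⟨x, hx⟩ := hsurj n y
    have h1 : y • e = x • e := by
      rw [← algebraMap_smul L' x e, ← sub_eq_zero, ← sub_smul]
      obtain ⟨e, rfl⟩ := Ideal.Quotient.mk_surjective e
      rw [Algebra.smul_def, Ideal.Quotient.algebraMap_eq, ← map_mul, Ideal.Quotient.eq_zero_iff_mem]
      exact Ideal.mul_mem_right _ _ hx
    rw [h1, TensorProduct.smul_tmul]
    have h2 := hN (y - algebraMap L L' x) (by rw [Ideal.map_pow]; exact hx) e s
    rw [sub_smul, algebraMap_smul, TensorProduct.tmul_sub, sub_eq_zero] at h2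
    exact h2.symm
  haveI : TensorProduct.CompatibleSMul L L' E S := ⟨key⟩
  exact Module.Flat.of_linearEquiv (TensorProduct.equivOfCompatibleSMul L L' E E S)

/-- A flat ring map induces flat maps of completed localisations. -/
theorem flat_map {R R' : Type u} [CommRing R] [CommRing R'] [IsNoetherianRing R] [IsNoetherianRing R']
    (J : Ideal R) (g : R) (J' : Ideal R') (g' : R') (χ : R →+* R') (hχ : χ.Flat) (h : J.map χ ≤ J')
    (φ : CL J g →+* CL J' g') (hφ : ∀ r, φ (algebraMap R _ r) = algebraMap R' _ (χ r)) : φ.Flat := by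
  let L := Localization.Away g
  let T := CL J g
  let T' := CL J' g'
  letI := φ.toAlgebra
  letI := χ.toAlgebra
  haveI : IsScalarTower R T T' :=
    IsScalarTower.of_algebraMap_eq (R := R) (S := T) (A := T') fun r =>
      ((hφ r).trans (IsScalarTower.algebraMap_apply R R' T' r).symm).symm
  letI : Algebra L T' := (φ.comp (algebraMap L T)).toAlgebra
  haveI : IsScalarTower L T T' := IsScalarTower.of_algebraMap_eq (R := L) (S := T) (A := T') fun _ => rfl
  haveI : IsScalarTower R L T' := IsScalarTower.of_algebraMap_eq (R := R) (S := L) (A := T') fun r => by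
    change _ = φ (algebraMap L T (algebraMap R L r))
    rw [← IsScalarTower.algebraMap_apply R L T, hφ]
    exact IsScalarTower.algebraMap_apply R R' T' r
  haveI : Module.Flat R R' := hχ
  haveI : Module.Flat R' (Localization.Away g') := IsLocalization.flat _ (Submonoid.powers g')
  haveI : Module.Flat (Localization.Away g') T' := AdicCompletion.flat_of_isNoetherian _
  haveI : Module.Flat R' T' := Module.Flat.trans R' (Localization.Away g') T'
  haveI : Module.Flat R T' := Module.Flat.trans R R' T'
  haveI : Module.Flat L T' := (Module.flat_iff_of_isLocalization L (Submonoid.powers g) T').2 ‹_›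
  haveI := isAdicComplete_CL J' (IsNoetherian.noetherian _) g'
  refine flat_of_mod (L := L) (J.map (algebraMap R L)) ?_ fun n y =>
    exists_sub_mem_pow _ (IsNoetherian.noetherian _) n y
  rw [← map_ι, Ideal.map_map, ← IsScalarTower.algebraMap_eq, IsScalarTower.algebraMap_eq R R' T',
    ← Ideal.map_map]
  exact (Ideal.map_mono h).trans (IsAdicComplete.le_jacobson_bot _)

end Flat

section Points

open RigClosed

variable {A : Type u} [CommRing A] [IsNoetherianRing A] {I : Ideal A} [IsAdicComplete I A]

/-- Contracting a rig-closed point with finite quotient over the base. -/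
theorem of_chain {R T : Type u} [CommRing R] [IsNoetherianRing R] [Algebra A R]
    [IsAdicComplete (I.map (algebraMap A R)) R] [CommRing T] [IsNoetherianRing T] [Algebra A T] [Algebra R T]
    [IsScalarTower A R T] [IsAdicComplete (I.map (algebraMap A T)) T] {q : PrimeSpectrum T}
    (hq : IsRigClosed (I.map (algebraMap A T)) q) (hfin : Module.Finite A (T ⧸ q.asIdeal)) :
    IsRigClosed (I.map (algebraMap A R)) (PrimeSpectrum.comap (algebraMap R T) q) ∧
      Module.Finite A (R ⧸ (PrimeSpectrum.comap (algebraMap R T) q).asIdeal) := by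
  haveI := hfin
  have hJ : I.map (algebraMap A T) = (I.map (algebraMap A R)).map (algebraMap R T) := by
    rw [Ideal.map_map, ← IsScalarTower.algebraMap_eq]
  haveI : IsAdicComplete ((I.map (algebraMap A R)).map (algebraMap R T)) T := hJ ▸ ‹_›
  refine ⟨comap_rigClosed (hJ ▸ hq) (Module.Finite.of_restrictScalars_finite A R _), ?_⟩
  let φ : (R ⧸ q.asIdeal.comap (algebraMap R T)) →ₐ[A] T ⧸ q.asIdeal :=
    Ideal.quotientMapₐ q.asIdeal (IsScalarTower.toAlgHom A R T) le_rfl
  exact Module.Finite.of_injective φ.toLinearMap (Ideal.quotientMap_injective (I := q.asIdeal))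

/-- `of_chain` over an auxiliary base. -/
theorem of_chain_base {A' : Type u} [CommRing A'] [IsNoetherianRing A'] [Algebra A A']
    {R T : Type u} [CommRing R] [IsNoetherianRing R] [Algebra A R]
    [IsAdicComplete (I.map (algebraMap A R)) R] [CommRing T] [IsNoetherianRing T] [Algebra A T] [Algebra R T]
    [IsScalarTower A R T] [IsAdicComplete (I.map (algebraMap A T)) T] [Algebra A' R] [Algebra A' T]
    [IsScalarTower A' R T] {q : PrimeSpectrum T}
    (hq : IsRigClosed (I.map (algebraMap A T)) q) (hfin : Module.Finite A' (T ⧸ q.asIdeal)) :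
    IsRigClosed (I.map (algebraMap A R)) (PrimeSpectrum.comap (algebraMap R T) q) ∧
      Module.Finite A' (R ⧸ (PrimeSpectrum.comap (algebraMap R T) q).asIdeal) := by
  haveI := hfin
  have hJ : I.map (algebraMap A T) = (I.map (algebraMap A R)).map (algebraMap R T) := by
    rw [Ideal.map_map, ← IsScalarTower.algebraMap_eq]
  haveI : IsAdicComplete ((I.map (algebraMap A R)).map (algebraMap R T)) T := hJ ▸ ‹_›
  refine ⟨comap_rigClosed (hJ ▸ hq) (Module.Finite.of_restrictScalars_finite A' R _), ?_⟩
  let φ : (R ⧸ q.asIdeal.comap (algebraMap R T)) →ₐ[A'] T ⧸ q.asIdeal :=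
    Ideal.quotientMapₐ q.asIdeal (IsScalarTower.toAlgHom A' R T) le_rfl
  exact Module.Finite.of_injective φ.toLinearMap (Ideal.quotientMap_injective (I := q.asIdeal))

/-- A rig-closed point of `T`, seen in an algebra `T'` over a base `A'` over which its residue field is
finite. -/
theorem point_transfer {T : Type u} [CommRing T] [IsNoetherianRing T] [Algebra A T]
    [IsAdicComplete (I.map (algebraMap A T)) T] {q : PrimeSpectrum T}
    (hq : IsRigClosed (I.map (algebraMap A T)) q) {f : A} {m : Ideal T}
    (huniq : ∀ n : Ideal T, n.IsMaximal → q.asIdeal ≤ n → n = m) (s : Finset (T ⧸ m))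
    (hs : ∀ x : T ⧸ m, ∃ n : ℕ, f ^ n • x ∈ Submodule.span A (s : Set (T ⧸ m)))
    {A' : Type u} [CommRing A'] [IsNoetherianRing A'] [Algebra A A']
    [IsAdicComplete (I.map (algebraMap A A')) A'] (hf : IsUnit (algebraMap A A' f))
    {T' : Type u} [CommRing T'] [IsNoetherianRing T'] [Algebra A T'] [Algebra A' T'] [IsScalarTower A A' T']
    [IsAdicComplete (I.map (algebraMap A T')) T'] (χ : T' →ₐ[A] T ⧸ q.asIdeal) (hχ : Function.Surjective χ) :
    ∃ q' : PrimeSpectrum T', q'.asIdeal = RingHom.ker χ ∧ IsRigClosed (I.map (algebraMap A T')) q' ∧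
      Module.Finite A' (T' ⧸ q'.asIdeal) := by
  classical
  haveI : (RingHom.ker χ).IsPrime := RingHom.ker_isPrime χ.toRingHom
  let q' : PrimeSpectrum T' := ⟨RingHom.ker χ, ‹_›⟩
  let e : (T' ⧸ q'.asIdeal) ≃+* (T ⧸ q.asIdeal) :=
    RingHom.quotientKerEquivOfSurjective (f := χ.toRingHom) hχ
  have hq' : IsRigClosed (I.map (algebraMap A T')) q' := by
    refine of_ringKrullDim_eq_one _ q' ((ringKrullDim_eq_of_ringEquiv e).trans
      (ringKrullDim_quotient_eq_one _ hq)) fun hle => hq.1 (Ideal.map_le_iff_le_comap.2 fun a ha => ?_)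
    have := hle (Ideal.mem_map_of_mem _ ha)
    rw [RingHom.mem_ker, AlgHom.commutes, IsScalarTower.algebraMap_apply A T,
      Ideal.Quotient.algebraMap_eq, Ideal.Quotient.eq_zero_iff_mem] at this
    exact this
  have hJ : I.map (algebraMap A T') = (I.map (algebraMap A A')).map (algebraMap A' T') := by
    rw [Ideal.map_map, ← IsScalarTower.algebraMap_eq]
  haveI : IsAdicComplete ((I.map (algebraMap A A')).map (algebraMap A' T')) T' := hJ ▸ ‹_›
  refine ⟨q', rfl, hq', finite_quotient (hJ ▸ hq') fun n hn hqn => ?_⟩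
  haveI := hn
  let n₀ : Ideal (T ⧸ q.asIdeal) := n.map χ.toRingHom
  haveI hn₀ : n₀.IsMaximal := Ideal.IsMaximal.map_of_surjective_of_ker_le hχ hqn
  have hback : n₀.comap χ.toRingHom = n := by
    refine (Ideal.comap_map_of_surjective' χ.toRingHom hχ n).trans ?_
    exact sup_eq_left.2 hqn
  obtain rfl : n₀.comap (Ideal.Quotient.mk q.asIdeal) = m :=
    huniq _ (Ideal.comap_isMaximal_of_surjective _ Ideal.Quotient.mk_surjective) (le_comap_mk _ n₀)
  let θ : (T' ⧸ n) →ₐ[A] (T ⧸ q.asIdeal) ⧸ n₀ := Ideal.quotientMapₐ n₀ χ hback.ge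
  have hθ : Function.Injective θ := by
    rw [injective_iff_map_eq_zero]
    intro x hx
    obtain ⟨x, rfl⟩ := Ideal.Quotient.mk_surjective x
    rw [Ideal.Quotient.eq_zero_iff_mem, ← hback, Ideal.mem_comap]
    exact Ideal.Quotient.eq_zero_iff_mem.1 hx
  let π : (T ⧸ n₀.comap (Ideal.Quotient.mk q.asIdeal)) →ₐ[A] (T ⧸ q.asIdeal) ⧸ n₀ :=
    Ideal.quotientMapₐ n₀ (Ideal.Quotient.mkₐ A q.asIdeal) le_rfl
  have hsec : ∀ x, ∃ y : T' ⧸ n, θ y = π x := fun x => by
    obtain ⟨y, hy⟩ := Ideal.Quotient.mk_surjective (π x)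
    obtain ⟨t, rfl⟩ := hχ y
    exact ⟨Ideal.Quotient.mk n t, hy⟩
  choose lift hlift using hsec
  have hlin : ∀ z ∈ Submodule.span A (s : Set _), lift z ∈ Submodule.span A' ((s.image lift : Finset _) : Set (T' ⧸ n)) := by
    intro z hz
    induction hz using Submodule.span_induction with
    | mem w hw => exact Submodule.subset_span (Finset.mem_image_of_mem lift hw)
    | zero =>
      rw [show lift 0 = 0 from hθ (by rw [hlift, map_zero, map_zero])]
      exact zero_mem _
    | add a b _ _ ha hb =>
      rw [show lift (a + b) = lift a + lift b from hθ (by rw [map_add, hlift, hlift, hlift, map_add])]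
      exact add_mem ha hb
    | smul c a _ ha =>
      rw [show lift (c • a) = algebraMap A A' c • lift a from hθ (by
        rw [algebraMap_smul, map_smul, hlift, hlift, map_smul])]
      exact Submodule.smul_mem _ _ ha
  refine ⟨⟨s.image lift, top_le_iff.1 fun y _ => ?_⟩⟩
  obtain ⟨t', rfl⟩ := Ideal.Quotient.mk_surjective y
  obtain ⟨t, ht⟩ := Ideal.Quotient.mk_surjective (χ t')
  obtain ⟨k, hk⟩ := hs (Ideal.Quotient.mk _ t)
  have h1 := hlin _ hk
  rw [show lift (f ^ k • Ideal.Quotient.mk _ t) = algebraMap A A' f ^ k • Ideal.Quotient.mk n t' from hθ (by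
    rw [hlift, map_smul, ← map_pow, algebraMap_smul, map_smul]
    congr 1
    exact congrArg (Ideal.Quotient.mk n₀) ht)] at h1
  have := Submodule.smul_mem _ ((hf.pow k).unit⁻¹ : A'ˣ).1 h1
  rwa [smul_smul, IsUnit.val_inv_mul, one_smul] at this

/-- A rig-closed point of a completed localisation: some `f` such that after inverting it the point has
finite quotient over any base where `f` is invertible. -/
theorem exists_refinement {B : Type u} [CommRing B] [IsNoetherianRing B] [Algebra A B]
    (hft : Algebra.FiniteType A (B ⧸ I.map (algebraMap A B))) (g : B)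
    {q : PrimeSpectrum (CL (I.map (algebraMap A B)) g)}
    (hq : IsRigClosed (I.map (algebraMap A (CL (I.map (algebraMap A B)) g))) q) :
    ∃ f : A, IsUnit (Ideal.Quotient.mk q.asIdeal (algebraMap A _ f)) ∧
      ∀ (g' : B), IsUnit (Ideal.Quotient.mk q.asIdeal (algebraMap B _ g')) →
      ∀ (φ : CL (I.map (algebraMap A B)) g →+* CL (I.map (algebraMap A B)) g'),
        (∀ b, φ (algebraMap B _ b) = algebraMap B _ b) →
      ∀ (A' : Type u) [CommRing A'] [IsNoetherianRing A'] [Algebra A A']
        [IsAdicComplete (I.map (algebraMap A A')) A'] [Algebra A' (CL (I.map (algebraMap A B)) g')]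
        [IsScalarTower A A' (CL (I.map (algebraMap A B)) g')], IsUnit (algebraMap A A' f) →
      ∃ q' : PrimeSpectrum (CL (I.map (algebraMap A B)) g'),
        q.asIdeal = q'.asIdeal.comap φ ∧
        IsRigClosed (I.map (algebraMap A (CL (I.map (algebraMap A B)) g'))) q' ∧
        Module.Finite A' (CL (I.map (algebraMap A B)) g' ⧸ q'.asIdeal) := by
  let J := I.map (algebraMap A B)
  let T := CL J g
  have hmap : ∀ g : B, J.map (algebraMap B (CL J g)) = I.map (algebraMap A (CL J g)) := fun g =>
    (Ideal.map_map _ _).trans (congrArg (fun φ => I.map φ) (IsScalarTower.algebraMap_eq A B (CL J g)).symm)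
  haveI hc : ∀ g : B, IsAdicComplete (I.map (algebraMap A (CL J g))) (CL J g) := fun g =>
    hmap g ▸ isAdicComplete_CL J (IsNoetherian.noetherian _) g
  obtain ⟨f, m, hf, huniq, s, hs⟩ := S8840.exists_element I (finiteType_CL I g hft) hq
  refine ⟨f, hf, fun g' hg' φ hφ A' _ _ _ _ _ _ hfA' => ?_⟩
  let T' := CL J g'
  let mkq := Ideal.Quotient.mk q.asIdeal
  let K := (I.map (algebraMap A T)).map mkq
  haveI : IsAdicComplete K (T ⧸ q.asIdeal) := Complete.isAdicComplete_quotient q.asIdeal
  obtain ⟨χ, hχ⟩ := exists_lift_CL J (IsNoetherian.noetherian _) g' K (mkq.comp (algebraMap B T)) hg' (by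
    rw [← Ideal.map_map, hmap])
  have hχφ : χ.comp φ = mkq := by
    have hcomp : (χ.comp φ).comp (algebraMap B T) = mkq.comp (algebraMap B T) := RingHom.ext fun b => by
      rw [RingHom.comp_apply, RingHom.comp_apply, hφ, hχ]
    refine ext_CL J (IsNoetherian.noetherian _) g K ?_ hcomp
    rw [hcomp, ← Ideal.map_map, hmap]
  let χ' : T' →ₐ[A] T ⧸ q.asIdeal :=
    { χ with
      commutes' := fun a => by
        change χ (algebraMap A T' a) = mkq (algebraMap A T a)
        rw [IsScalarTower.algebraMap_apply A B T', hχ, RingHom.comp_apply,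
          ← IsScalarTower.algebraMap_apply A B T] }
  have hsurj : Function.Surjective χ' := fun y => by
    obtain ⟨t, rfl⟩ := Ideal.Quotient.mk_surjective y
    exact ⟨φ t, RingHom.congr_fun hχφ t⟩
  obtain ⟨q', hq'ker, hq', hfin⟩ := point_transfer hq huniq s hs hfA' χ' hsurj
  refine ⟨q', ?_, hq', hfin⟩
  rw [hq'ker]
  conv_lhs => rw [← Ideal.mk_ker (I := q.asIdeal)]
  exact (congrArg RingHom.ker hχφ).symm.trans (RingHom.comap_ker χ φ).symm

/-- Descending flatness at a point along a flat map. -/
theorem flat_descend {R R' T T' : Type u} [CommRing R] [CommRing R'] [CommRing T] [CommRing T']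
    (a : R →+* R') (ψ : R →+* T) (ψ' : R' →+* T') (φ : T →+* T') (hc : φ.comp ψ = ψ'.comp a) (ha : a.Flat)
    (hφ : φ.Flat) (q' : Ideal T') [q'.IsPrime] (q : Ideal T) [q.IsPrime] (hq : q = q'.comap φ)
    (h : ((algebraMap T' (Localization.AtPrime q')).comp ψ').Flat) :
    ((algebraMap T (Localization.AtPrime q)).comp ψ).Flat := by
  let S := Localization.AtPrime q
  let S' := Localization.AtPrime q'
  let θ : S →+* S' := Localization.localRingHom q q' φ hq
  have hθ : θ.Flat := by
    letI := φ.toAlgebra
    letI := θ.toAlgebra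
    haveI : IsScalarTower T S S' := IsScalarTower.of_algebraMap_eq (R := T) (S := S) (A := S') fun x => by
      rw [RingHom.algebraMap_toAlgebra, Localization.localRingHom_to_map,
        IsScalarTower.algebraMap_apply T T' S']
      rfl
    haveI : Module.Flat T T' := hφ
    haveI : Module.Flat T' S' := IsLocalization.flat _ q'.primeCompl
    haveI : Module.Flat T S' := Module.Flat.trans T T' S'
    exact (Module.flat_iff_of_isLocalization S q.primeCompl S').2 ‹_›
  letI := θ.toAlgebra
  haveI : Module.Flat S S' := hθ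
  haveI : IsLocalHom (algebraMap S S') := Localization.isLocalHom_localRingHom q q' φ hq
  haveI : Module.FaithfullyFlat S S' := Module.FaithfullyFlat.of_flat_of_isLocalHom
  letI : Algebra R S := ((algebraMap T S).comp ψ).toAlgebra
  letI : Algebra R S' := (θ.comp ((algebraMap T S).comp ψ)).toAlgebra
  haveI : IsScalarTower R S S' := IsScalarTower.of_algebraMap_eq (R := R) (S := S) (A := S') fun _ => rfl
  haveI : Module.Flat R S' := by
    have : θ.comp ((algebraMap T S).comp ψ) = ((algebraMap T' S').comp ψ').comp a := by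
      refine RingHom.ext fun r => ?_
      change θ (algebraMap T S (ψ r)) = algebraMap T' S' (ψ' (a r))
      rw [show θ (algebraMap T S (ψ r)) = algebraMap T' S' (φ (ψ r)) from
        Localization.localRingHom_to_map q q' φ hq _]
      exact congrArg (algebraMap T' S') (RingHom.congr_fun hc r)
    change (θ.comp ((algebraMap T S).comp ψ)).Flat
    rw [this]
    exact ha.comp h
  exact SourceDescent.Ring.flat_of_comp R S S'

end Points

end Groth.Agent.Lib.Adic.RigFunct
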